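import Cfsg.Agent.Known.ClassNumberSp.Classes
import Cfsg.Agent.Known.FormSemisimple
import Mathlib

/-! Regular unipotent elements of symplectic groups in odd characteristic: classes and centralisers. -/

set_option autoImplicit false
set_option linter.style.haveILetI false

open Polynomial Matrix Cfsg.Lib.Classical

namespace Cfsg.Lib.ClassNumberSp

universe u v

section General

variable {F : Type u} [Field F] {V : Type v} [AddCommGroup V] [Module F V]
variable {B : LinearMap.BilinForm F V} {N : ℕ} {a : Module.End F V} {e : ℕ}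

/-- A single unipotent Jordan block. -/
structure RegUnip (a : Module.End F V) (e : ℕ) : Prop where
  kills : aeval a ((X - C (sgn F true)) ^ e) = 0
  top : aeval a ((X - C (sgn F true)) ^ (e - 1)) ≠ 0

theorem RegUnip.exists_cyc [FiniteDimensional F V] (ha : Isom B N a) (hB : B.IsAlt)
    (hnd : ∀ x, (∀ y, B x y = 0) → x = 0) (he : Even e) (he1 : 1 ≤ e) (hV : Module.finrank F V = e)
    (hr : RegUnip a e) (v : V) (hv : aeval a ((X - C (sgn F true)) ^ (e - 1)) v ≠ 0) :
    Cyc B a ((X - C (sgn F true)) ^ e) v ∧ gen a v = ⊤ := by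
  set L : F[X] := X - C (sgn F true) with hL
  have hk : aeval a (L ^ e) v = 0 := by rw [hr.kills, LinearMap.zero_apply]
  have hdvd : ∀ f, aeval a f v = 0 → L ^ e ∣ f := by
    intro f hf
    suffices h : ∀ j ≤ e, L ^ j ∣ f from h e le_rfl
    intro j
    induction j with
    | zero => simp
    | succ j ih =>
      intro hj
      obtain ⟨f', rfl⟩ := ih (by omega)
      rw [pow_succ]
      refine mul_dvd_mul_left _ (dvd_iff_isRoot.2 ?_)
      have h1 := congrArg (aeval a (L ^ (e - 1 - j))) hf
      rw [map_zero, ← aeval_mul_apply, ← mul_assoc, ← pow_add, show e - 1 - j + j = e - 1 by omega, mul_comm,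
        top_smul he1 hk] at h1
      exact (smul_eq_zero.1 h1).resolve_right hv
  have hinj : Function.Injective (psi a ((monic_X_sub_C (sgn F true)).pow e) v) := by
    refine (injective_iff_map_eq_zero _).2 fun r hr' => ?_
    obtain ⟨f, rfl⟩ := AdjoinRoot.mk_surjective r
    rw [psi_mk _ hk] at hr'
    exact AdjoinRoot.mk_eq_zero.2 (hdvd f hr')
  have htop : gen a v = ⊤ := by
    apply Submodule.eq_top_of_finrank_eq
    rw [hV, ← range_psi ((monic_X_sub_C (sgn F true)).pow e) hk, LinearMap.finrank_range_of_inj hinj,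
      (PowerBasis.finrank (AdjoinRoot.powerBasis' ((monic_X_sub_C (sgn F true)).pow e))), AdjoinRoot.powerBasis'_dim,
      natDegree_pow, natDegree_X_sub_C, mul_one]
  refine ⟨cyc_of_top he1 (reverse_linear_even true he) hk fun h0 => hv (hnd _ fun y => ?_), htop⟩
  obtain ⟨f, rfl⟩ := mem_gen.1 (htop ▸ Submodule.mem_top : y ∈ gen a v)
  rw [alt_neg hB, ha.adjoint, alt_neg hB, neg_neg, ← aeval_mul_apply, top_smul he1 hk, map_smul, LinearMap.smul_apply,
    smul_eq_mul, h0, mul_zero]

/-- The square class of a single block. -/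
def SqType (B : LinearMap.BilinForm F V) (a : Module.End F V) (e : ℕ) : Prop :=
  ∃ v, aeval a ((X - C (sgn F true)) ^ (e - 1)) v ≠ 0 ∧ IsSquare (B (aeval a ((X - C (sgn F true)) ^ (e - 1)) v) v)

theorem RegUnip.sqType_iff [FiniteDimensional F V] (ha : Isom B N a) (hB : B.IsAlt)
    (hnd : ∀ x, (∀ y, B x y = 0) → x = 0) (he : Even e) (he1 : 1 ≤ e) (hV : Module.finrank F V = e)
    (hr : RegUnip a e) {v : V} (hv : aeval a ((X - C (sgn F true)) ^ (e - 1)) v ≠ 0) :
    SqType B a e ↔ IsSquare (B (aeval a ((X - C (sgn F true)) ^ (e - 1)) v) v) := by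
  refine ⟨fun ⟨w, hw, hsq⟩ => ?_, fun h => ⟨v, hv, h⟩⟩
  obtain ⟨hc, htop⟩ := hr.exists_cyc ha hB hnd he he1 hV w hw
  obtain ⟨f, rfl⟩ := mem_gen.1 (htop ▸ Submodule.mem_top : v ∈ gen a w)
  have : B (aeval a ((X - C (sgn F true)) ^ (e - 1)) (aeval a f w)) (aeval a f w) =
      f.eval (sgn F true) * f.eval (sgn F true) * B (aeval a ((X - C (sgn F true)) ^ (e - 1)) w) w := by
    rw [← aeval_mul_apply, mul_comm, top_smul he1 hc.kills, map_smul, LinearMap.smul_apply, smul_eq_mul, alt_neg hB,
      ha.adjoint, alt_neg hB, neg_neg, ← aeval_mul_apply, top_smul he1 hc.kills, map_smul, LinearMap.smul_apply,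
      smul_eq_mul, ← mul_assoc]
    congr 2
    rw [star, eval_comp, eval_pow, eval_X]
    simp [sgn]
  rw [this]
  exact (IsSquare.mul_self _).mul hsq

end General

variable {F : Type u} [Field F] [Fintype F] {m : ℕ}

theorem two_ne_zero_of_odd (hodd : Odd (Fintype.card F)) : (2 : F) ≠ 0 := Ring.two_ne_zero fun h => by
  have := FiniteField.even_card_of_char_two h
  rw [Nat.odd_iff] at hodd
  omega

omit [Fintype F] in
theorem finrank_space (m : ℕ) : Module.finrank F (Fin m ⊕ Fin m → F) = 2 * m := by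
  rw [Module.finrank_pi, Fintype.card_sum, Fintype.card_fin, two_mul]

omit [Fintype F] in
theorem nondeg_symp (x : Fin m ⊕ Fin m → F) (h : ∀ y, sympBilin m F x y = 0) : x = 0 :=
  (sympBilin_nondegenerate m F).1 x h

theorem regUnip_iff (hm : 1 ≤ m) (u : Matrix (Fin m ⊕ Fin m) (Fin m ⊕ Fin m) F) :
    ((u - 1) ^ (2 * m) = 0 ∧ (u - 1).rank = 2 * m - 1) ↔ RegUnip (Matrix.toLin' u) (2 * m) := by
  have he : ∀ k, aeval (Matrix.toLin' u) ((X - C (sgn F true)) ^ k) = Matrix.toLin' ((u - 1) ^ k) := fun k => by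
    rw [map_pow, Matrix.toLin'_pow, map_sub, aeval_X, aeval_C, map_sub, Matrix.toLin'_one]
    simp [sgn, Module.End.one_eq_id]
  set D := Matrix.toLin' (u - 1) with hD
  have hrk : (u - 1).rank = Module.finrank F (LinearMap.range D) := by rw [Matrix.rank, hD]; rfl
  have hpk : ∀ k, Matrix.toLin' ((u - 1) ^ k) = D ^ k := fun k => Matrix.toLin'_pow _ k
  have hN := finrank_space (F := F) m
  constructor
  · rintro ⟨h1, h2⟩
    refine ⟨by rw [he, h1, map_zero], ?_⟩
    rw [he, hpk]
    have hk : Module.finrank F (LinearMap.ker D) = 1 := by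
      have := D.finrank_range_add_finrank_ker
      omega
    have key : ∀ k ≤ 2 * m, 2 * m - k ≤ Module.finrank F (LinearMap.range (D ^ k)) := by
      intro k
      induction k with
      | zero => intro _; rw [pow_zero, Module.End.one_eq_id, LinearMap.range_id, finrank_top, hN]; omega
      | succ k ih =>
        intro hk'
        rw [pow_succ', Module.End.mul_eq_comp, LinearMap.range_comp]
        have h3 := (D.domRestrict (LinearMap.range (D ^ k))).finrank_range_add_finrank_ker
        have h4 : Module.finrank F (LinearMap.ker (D.domRestrict (LinearMap.range (D ^ k)))) ≤ 1 := by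
          rw [← hk]
          refine LinearMap.finrank_le_finrank_of_injective (f := ((LinearMap.range (D ^ k)).subtype.comp
            (LinearMap.ker (D.domRestrict (LinearMap.range (D ^ k)))).subtype).codRestrict (LinearMap.ker D)
            fun x => ?_) fun x y hxy => ?_
          · exact x.2
          · have h5 := congrArg Subtype.val hxy
            exact Subtype.ext (Subtype.ext h5)
        rw [LinearMap.range_domRestrict] at h3
        have := ih (by omega)
        omega
    intro h0
    have := key (2 * m - 1) (by omega)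
    rw [h0, LinearMap.range_zero, finrank_bot] at this
    omega
  · rintro ⟨h1, h2⟩
    rw [he, LinearEquiv.map_eq_zero_iff] at h1
    refine ⟨h1, ?_⟩
    rw [he, hpk] at h2
    have hD0 : D ^ (2 * m) = 0 := by rw [← hpk, h1, map_zero]
    have hle : Module.finrank F (LinearMap.range D) ≤ 2 * m - 1 := by
      have hlt : LinearMap.range D < ⊤ := by
        refine lt_top_iff_ne_top.2 fun h => h2 ?_
        have hs : Function.Surjective D := LinearMap.range_eq_top.1 h
        have : Function.Surjective ⇑(D ^ (2 * m)) := by rw [Module.End.coe_pow]; exact hs.iterate _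
        refine LinearMap.ext fun x => ?_
        obtain ⟨y, rfl⟩ := this x
        rw [hD0, LinearMap.zero_apply, map_zero, LinearMap.zero_apply]
      have := Submodule.finrank_lt hlt.ne
      omega
    obtain ⟨v, hv⟩ : ∃ v, (D ^ (2 * m - 1)) v ≠ 0 := by
      by_contra hcon
      push Not at hcon
      exact h2 (LinearMap.ext hcon)
    have hge : 2 * m - 1 ≤ Module.finrank F (LinearMap.range D) := by
      have hinj : LinearIndependent F fun i : Fin (2 * m - 1) => (⟨(D ^ ((i : ℕ) + 1)) v,
          by rw [pow_succ', Module.End.mul_apply]; exact LinearMap.mem_range_self _ _⟩ : LinearMap.range D) := by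
        rw [Fintype.linearIndependent_iff]
        intro c hc
        have hc' : ∑ i, c i • (D ^ ((i : ℕ) + 1)) v = 0 := by
          have := congrArg Subtype.val hc
          simpa [Submodule.coe_sum, Submodule.coe_smul] using this
        suffices h : ∀ (j : ℕ) (i : Fin (2 * m - 1)), (i : ℕ) < j → c i = 0 from fun i => h _ i i.isLt
        intro j
        induction j with
        | zero => intro i hi; omega
        | succ j ih =>
          intro i hi
          rcases lt_or_eq_of_le (Nat.le_of_lt_succ hi) with hlt | heq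
          · exact ih i hlt
          have h3 := congrArg (D ^ (2 * m - 2 - j)) hc'
          rw [map_sum, map_zero, Finset.sum_eq_single i] at h3
          · rw [map_smul, ← Module.End.mul_apply, ← pow_add, show 2 * m - 2 - j + ((i : ℕ) + 1) = 2 * m - 1 by omega]
              at h3
            exact (smul_eq_zero.1 h3).resolve_right hv
          · intro k _ hk
            rcases Nat.lt_or_ge (k : ℕ) j with hkj | hkj
            · rw [ih k hkj, zero_smul, map_zero]
            · rw [map_smul, ← Module.End.mul_apply, ← pow_add]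
              have hne : (k : ℕ) ≠ j := fun h => hk (Fin.ext (h.trans heq.symm))
              rw [pow_eq_zero_of_le (by omega) hD0, LinearMap.zero_apply, smul_zero]
          · intro h; exact absurd (Finset.mem_univ i) h
      simpa using hinj.fintype_card_le_finrank
    rw [hrk]
    omega

theorem regular_block (hm : 1 ≤ m) (A : symplecticGroup (Fin m) F)
    (hr : RegUnip (Matrix.toLin' (A : Matrix (Fin m ⊕ Fin m) (Fin m ⊕ Fin m) F)) (2 * m)) :
    ∃ v, Cyc (sympBilin m F) (Matrix.toLin' (A : Matrix (Fin m ⊕ Fin m) (Fin m ⊕ Fin m) F))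
        ((X - C (sgn F true)) ^ (2 * m)) v ∧
      gen (Matrix.toLin' (A : Matrix (Fin m ⊕ Fin m) (Fin m ⊕ Fin m) F)) v = ⊤ ∧
      aeval (Matrix.toLin' (A : Matrix (Fin m ⊕ Fin m) (Fin m ⊕ Fin m) F)) ((X - C (sgn F true)) ^ (2 * m - 1)) v ≠ 0 := by
  obtain ⟨v, hv⟩ := DFunLike.ne_iff.1 hr.top
  obtain ⟨hc, ht⟩ := hr.exists_cyc (isom_toLin A) (sympBilin_isAlt m F) nondeg_symp (even_two_mul m) (by omega)
    (finrank_space m) v hv
  exact ⟨v, hc, ht, hv⟩

section Model

variable (p : ℕ) [Fact p.Prime] [CharP F p]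

theorem dvd_X_pow_card (e : ℕ) : (X - C (sgn F true) : F[X]) ^ e ∣ X ^ p ^ e - 1 := by
  have : (X : F[X]) ^ p ^ e - 1 = (X - C (sgn F true)) ^ p ^ e := by rw [sub_pow_char_pow]; simp [sgn]
  rw [this]
  exact pow_dvd_pow _ (Nat.lt_pow_self (Fact.out : p.Prime).one_lt).le

include p in
/-- Regular unipotent symplectic elements of both types exist. -/
theorem exists_regular_unip (h2 : (2 : F) ≠ 0) (hm : 1 ≤ m) (c : F) (hc : c ≠ 0) :
    ∃ A : symplecticGroup (Fin m) F,
      RegUnip (Matrix.toLin' (A : Matrix (Fin m ⊕ Fin m) (Fin m ⊕ Fin m) F)) (2 * m) ∧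
      (SqType (sympBilin m F) (Matrix.toLin' (A : Matrix (Fin m ⊕ Fin m) (Fin m ⊕ Fin m) F)) (2 * m) ↔ IsSquare (c * 2)) := by
  classical
  set e := 2 * m with he
  set L : F[X] := X - C (sgn F true) with hL
  have hmon : (L ^ e).Monic := (monic_X_sub_C _).pow e
  have hrev : (L ^ e).reverse = L ^ e := reverse_linear_even true (even_two_mul m)
  haveI : Module.Finite F (AdjoinRoot (L ^ e)) := hmon.finite_adjoinRoot
  let N := p ^ e
  have hN : 1 ≤ N := Nat.one_le_pow _ _ (Fact.out : p.Prime).pos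
  have hdvd : L ^ e ∣ X ^ N - 1 := dvd_X_pow_card p e
  let τ := tau hN hdvd hrev
  -- the coefficient at the bottom layer
  let co : AdjoinRoot (L ^ e) →ₗ[F] F :=
    (lcoeff F (e - 1)).comp (AdjoinRoot.modByMonicHom hmon)
  have hco : co (AdjoinRoot.mk _ (L ^ (e - 1))) = 1 := by
    simp only [co, LinearMap.comp_apply, AdjoinRoot.modByMonicHom_mk, lcoeff_apply]
    rw [(modByMonic_eq_self_iff hmon).2]
    · have h1 : (L ^ (e - 1)).natDegree = e - 1 := by rw [natDegree_pow, natDegree_X_sub_C, mul_one]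
      have h2 : (L ^ (e - 1)).Monic := (monic_X_sub_C _).pow _
      rw [Monic, leadingCoeff, h1] at h2
      exact h2
    · rw [degree_pow, degree_pow, degree_X_sub_C, nsmul_one, nsmul_one]
      exact_mod_cast (by omega : e - 1 < e)
  have hτof : ∀ (x : F) r, τ (x • r) = x • τ r := fun x r => by
    rw [Algebra.smul_def, Algebra.smul_def, map_mul, AdjoinRoot.algebraMap_eq, tau_of]
  let τl : AdjoinRoot (L ^ e) →ₗ[F] AdjoinRoot (L ^ e) :=
    { toFun := τ, map_add' := map_add τ, map_smul' := hτof }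
  let φ : AdjoinRoot (L ^ e) →ₗ[F] F := c • (co - co.comp τl)
  have hφ : ∀ r, φ r = c * (co r - co (τ r)) := fun r => rfl
  have hφanti : ∀ r, φ (τ r) = - φ r := fun r => by rw [hφ, hφ, show τ (τ r) = r from tau_tau r]; ring
  set h := AdjoinRoot.mk (L ^ e) (L ^ (e - 1)) with hh
  have hXh : AdjoinRoot.root (L ^ e) * h = h := by
    rw [hh, ← AdjoinRoot.mk_X, ← map_mul, AdjoinRoot.mk_eq_mk]
    refine ⟨1, ?_⟩
    rw [show L ^ e = L ^ (e - 1) * L by rw [← pow_succ, Nat.sub_add_cancel (by omega)]]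
    simp only [hL, sgn, if_true, C_1]
    ring
  have hτh : τ h = - h := by
    have h1 := ClassNumberSU.aeval_reverse (K := F) (AdjoinRoot.root (L ^ e)) (AdjoinRoot.root (L ^ e) ^ (N - 1))
      (by rw [← pow_succ, Nat.sub_add_cancel hN, root_pow hdvd]) (Commute.all _ _) (L ^ (e - 1))
    rw [hL, reverse_linear_pow, ← hL, ← aeval_star, AdjoinRoot.aeval_eq, ← tau_mk (hN := hN) (hg := hdvd) (hrev := hrev),
      natDegree_pow, show L.natDegree = 1 from natDegree_X_sub_C _, mul_one, map_mul, aeval_C, AdjoinRoot.aeval_eq, ← hh] at h1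
    have hodd : Odd (e - 1) := ⟨m - 1, by omega⟩
    rw [show (-sgn F true) ^ (e - 1) = -1 by simp [sgn, hodd.neg_one_pow], map_neg, map_one, neg_one_mul] at h1
    have hpow : ∀ k, AdjoinRoot.root (L ^ e) ^ k * h = h := fun k => by
      induction k with
      | zero => rw [pow_zero, one_mul]
      | succ k ih => rw [pow_succ, mul_assoc, hXh, ih]
    have hu : IsUnit (AdjoinRoot.root (L ^ e) ^ (e - 1)) := by
      refine IsUnit.pow _ (IsUnit.of_mul_eq_one (AdjoinRoot.root (L ^ e) ^ (N - 1)) ?_)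
      rw [← pow_succ', Nat.sub_add_cancel hN, root_pow hdvd]
    apply hu.mul_right_cancel
    rw [neg_mul, mul_comm h, hpow]
    exact h1
  have hφh : φ h = c * 2 := by rw [hφ, hτh, map_neg, hco]; ring
  let E : (Fin m ⊕ Fin m → F) ≃ₗ[F] AdjoinRoot (L ^ e) := LinearEquiv.ofFinrankEq _ _ (by
    rw [finrank_space, (PowerBasis.finrank (AdjoinRoot.powerBasis' hmon)), AdjoinRoot.powerBasis'_dim, natDegree_pow,
      natDegree_X_sub_C, mul_one])
  let B' : LinearMap.BilinForm F (Fin m ⊕ Fin m → F) :=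
    ((LinearMap.mul F (AdjoinRoot (L ^ e))).compr₂ φ).compl₁₂ (E : _ →ₗ[F] _) (τl.comp (E : _ →ₗ[F] _))
  have hB' : ∀ x y, B' x y = φ (E x * τ (E y)) := fun x y => rfl
  have hA' : B'.IsAlt := fun x => by
    rw [hB', hφ, map_mul τ, show τ (τ (E x)) = E x from tau_tau _, mul_comm (τ (E x)), sub_self, mul_zero]
  have hnd' : B'.Nondegenerate := by
    have key : ∀ x, (∀ y, B' x y = 0) → x = 0 := by
      intro x hx
      apply E.injective
      rw [map_zero]
      obtain ⟨f, hf⟩ := AdjoinRoot.mk_surjective (E x)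
      rw [← hf, AdjoinRoot.mk_eq_zero]
      suffices H : ∀ j ≤ e, L ^ j ∣ f from H e le_rfl
      intro j
      induction j with
      | zero => simp
      | succ j ih =>
        intro hj
        obtain ⟨f', hf'⟩ := ih (by omega)
        rw [hf', pow_succ]
        refine mul_dvd_mul_left _ (dvd_iff_isRoot.2 ?_)
        have h1 := hx (E.symm (τ (AdjoinRoot.mk _ (L ^ (e - 1 - j)))))
        rw [hB', LinearEquiv.apply_symm_apply, show τ (τ (AdjoinRoot.mk _ (L ^ (e - 1 - j)))) = _ from tau_tau _, ← hf,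
          ← map_mul, hf'] at h1
        obtain ⟨d, hd⟩ : L ∣ f' - C (f'.eval (sgn F true)) := dvd_iff_isRoot.2 (by simp)
        have e1 : AdjoinRoot.mk (L ^ e) (L ^ j * f' * L ^ (e - 1 - j)) = f'.eval (sgn F true) • h := by
          rw [hh, Algebra.smul_def, AdjoinRoot.algebraMap_eq, ← AdjoinRoot.mk_C, ← map_mul, AdjoinRoot.mk_eq_mk]
          refine ⟨d, ?_⟩
          rw [show L ^ e = L ^ (e - 1) * L by rw [← pow_succ, Nat.sub_add_cancel (by omega)],
            show L ^ j * f' * L ^ (e - 1 - j) = L ^ (e - 1) * f' by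
              rw [mul_right_comm, ← pow_add]; congr 2; omega]
          linear_combination L ^ (e - 1) * hd
        rw [e1, map_smul, hφh, smul_eq_mul] at h1
        exact (mul_eq_zero.1 h1).resolve_right (mul_ne_zero hc h2)
    exact ⟨key, fun y hy => key y fun x => by rw [alt_neg hA', hy x, neg_zero]⟩
  obtain ⟨ε, hε⟩ := FormSemisimple.exists_isometry_alt (sympBilin m F) B' (sympBilin_isAlt m F)
    (sympBilin_nondegenerate m F) hA' hnd'
  let E' : AdjoinRoot (L ^ e) ≃ₗ[F] (Fin m ⊕ Fin m → F) := E.symm.trans ε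
  have hE' : ∀ r s, sympBilin m F (E' r) (E' s) = φ (r * τ s) := fun r s => by
    simp only [E', LinearEquiv.trans_apply]
    rw [hε, hB', LinearEquiv.apply_symm_apply, LinearEquiv.apply_symm_apply]
  let T : Module.End F (Fin m ⊕ Fin m → F) := (E' : _ →ₗ[F] _) ∘ₗ
    LinearMap.mulLeft F (AdjoinRoot.root (L ^ e)) ∘ₗ (E'.symm : _ →ₗ[F] _)
  have hT : ∀ r, T (E' r) = E' (AdjoinRoot.root (L ^ e) * r) := fun r => by simp [T]
  have hmem : LinearMap.toMatrix' T ∈ symplecticGroup (Fin m) F := by
    rw [mem_symplectic_iff_form]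
    intro x y
    rw [← Matrix.toLin'_apply, ← Matrix.toLin'_apply, Matrix.toLin'_toMatrix']
    obtain ⟨r, rfl⟩ := E'.surjective x
    obtain ⟨s, rfl⟩ := E'.surjective y
    rw [hT, hT, hE', hE', map_mul τ, mul_mul_mul_comm, show τ (AdjoinRoot.root (L ^ e)) = _ from tau_root,
      ← pow_succ', Nat.sub_add_cancel hN, root_pow hdvd, one_mul]
  have hpoly : ∀ f r, aeval T f (E' r) = E' (AdjoinRoot.mk _ f * r) := by
    intro f
    induction f using Polynomial.induction_on with
    | C x => intro r; rw [aeval_C, Module.algebraMap_end_apply, AdjoinRoot.mk_C, ← map_smul, Algebra.smul_def,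
        AdjoinRoot.algebraMap_eq]
    | add f g hf hg => intro r; rw [map_add, LinearMap.add_apply, hf, hg, map_add, add_mul, map_add]
    | monomial k x ih =>
      intro r
      rw [pow_succ, ← mul_assoc, aeval_mul_apply (C x * X ^ k), aeval_X, hT, ih, map_mul (AdjoinRoot.mk _) (C x * X ^ k), AdjoinRoot.mk_X, mul_assoc]
  refine ⟨⟨_, hmem⟩, ?_⟩
  simp only [Matrix.toLin'_toMatrix']
  have hv : aeval T (L ^ (e - 1)) (E' 1) ≠ 0 := by
    rw [hpoly, mul_one, ← hh, Ne, LinearEquiv.map_eq_zero_iff]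
    intro h0
    rw [h0, map_zero] at hφh
    exact mul_ne_zero hc h2 hφh.symm
  have hr : RegUnip T e := by
    refine ⟨LinearMap.ext fun x => ?_, fun h0 => hv (by rw [h0]; rfl)⟩
    obtain ⟨r, rfl⟩ := E'.surjective x
    rw [hpoly, AdjoinRoot.mk_self, zero_mul, map_zero, LinearMap.zero_apply]
  refine ⟨hr, ?_⟩
  have hiso : Isom (sympBilin m F) N T := by
    refine ⟨fun u w => ?_, LinearMap.ext fun x => ?_, hN⟩
    · have := (mem_symplectic_iff_form _).1 hmem u w
      rwa [← Matrix.toLin'_apply, ← Matrix.toLin'_apply, Matrix.toLin'_toMatrix'] at this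
    · obtain ⟨r, rfl⟩ := E'.surjective x
      rw [show T ^ N = aeval T (X ^ N : F[X]) by simp, hpoly, map_pow, AdjoinRoot.mk_X, root_pow hdvd, one_mul,
        Module.End.one_apply]
  rw [hr.sqType_iff hiso (sympBilin_isAlt m F) nondeg_symp (even_two_mul m) (by omega) (finrank_space m) hv, hpoly,
    mul_one, ← hh, hE', map_one, mul_one, hφh]

end Model

/-- The regular unipotent elements form two classes. -/
theorem card_regular_classes (hodd : Odd (Fintype.card F)) (hm : 1 ≤ m) :
    Nat.card {C : ConjClasses ↥(symplecticGroup (Fin m) F) // ∃ u : symplecticGroup (Fin m) F, ConjClasses.mk u = C ∧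
      ((u : Matrix (Fin m ⊕ Fin m) (Fin m ⊕ Fin m) F) - 1) ^ (2 * m) = 0 ∧
      ((u : Matrix (Fin m ⊕ Fin m) (Fin m ⊕ Fin m) F) - 1).rank = 2 * m - 1} = 2 := by
  classical
  obtain ⟨p, hp⟩ := CharP.exists F
  haveI : Fact p.Prime := ⟨CharP.char_is_prime F p⟩
  have h2 := two_ne_zero_of_odd hodd
  let P : symplecticGroup (Fin m) F → Prop := fun u =>
    SqType (sympBilin m F) (Matrix.toLin' (u : Matrix (Fin m ⊕ Fin m) (Fin m ⊕ Fin m) F)) (2 * m)
  have hdec : ∀ u : symplecticGroup (Fin m) F,
      RegUnip (Matrix.toLin' (u : Matrix (Fin m ⊕ Fin m) (Fin m ⊕ Fin m) F)) (2 * m) →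
      ∀ s : Bool, (P u ↔ s = true) →
      Dec (sympBilin m F) (Matrix.toLin' (u : Matrix (Fin m ⊕ Fin m) (Fin m ⊕ Fin m) F)) [Key.one true (2 * m) s] ⊤ := by
    intro u hu s hs
    obtain ⟨v, hc, ht, hv⟩ := regular_block hm u hu
    have hsq := hu.sqType_iff (isom_toLin u) (sympBilin_isAlt m F) nondeg_symp (even_two_mul m) (by omega)
      (finrank_space m) hv
    rw [← ht, show gen (Matrix.toLin' (u : Matrix (Fin m ⊕ Fin m) (Fin m ⊕ Fin m) F)) v =
      gen (Matrix.toLin' (u : Matrix (Fin m ⊕ Fin m) (Fin m ⊕ Fin m) F)) v ⊔ ⊥ from sup_bot_eq _ |>.symm]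
    exact Dec.cons (k := Key.one true (2 * m) s) ⟨by omega, even_two_mul m, v, hc, hsq.symm.trans hs, rfl⟩ Dec.nil
      fun x _ y hy => by rw [(Submodule.mem_bot F).1 hy, map_zero]
  have hconj : ∀ u u' : symplecticGroup (Fin m) F, IsConj u u' → P u → P u' := by
    rintro u u' h ⟨v, hv, hsq⟩
    obtain ⟨c, hc⟩ := isConj_iff.1 h
    set M : Module.End F (Fin m ⊕ Fin m → F) :=
      Matrix.toLin' (c : Matrix (Fin m ⊕ Fin m) (Fin m ⊕ Fin m) F) with hM
    have hcm : ∀ x, M (Matrix.toLin' (u : Matrix (Fin m ⊕ Fin m) (Fin m ⊕ Fin m) F) x) =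
        Matrix.toLin' (u' : Matrix (Fin m ⊕ Fin m) (Fin m ⊕ Fin m) F) (M x) := by
      intro x
      have := congrArg (fun g : symplecticGroup (Fin m) F => (g : Matrix (Fin m ⊕ Fin m) (Fin m ⊕ Fin m) F))
        (mul_inv_eq_iff_eq_mul.1 hc)
      simp only [Submonoid.coe_mul] at this
      rw [hM, ← LinearMap.comp_apply, ← Matrix.toLin'_mul, this, Matrix.toLin'_mul]
      rfl
    have hinj : Function.Injective M := fun x y hxy => by
      have := congrArg (Matrix.toLin' ((c⁻¹ : symplecticGroup (Fin m) F) : Matrix (Fin m ⊕ Fin m) (Fin m ⊕ Fin m) F)) hxy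
      rw [hM, ← LinearMap.comp_apply, ← LinearMap.comp_apply, ← Matrix.toLin'_mul, ← Submonoid.coe_mul, inv_mul_cancel,
        Submonoid.coe_one, Matrix.toLin'_one] at this
      exact this
    have hpow : ∀ f : F[X], ∀ x, M (aeval (Matrix.toLin' (u : Matrix (Fin m ⊕ Fin m) (Fin m ⊕ Fin m) F)) f x) =
        aeval (Matrix.toLin' (u' : Matrix (Fin m ⊕ Fin m) (Fin m ⊕ Fin m) F)) f (M x) := by
      intro f
      induction f using Polynomial.induction_on with
      | C a => intro x; simp
      | add f g hf hg => intro x; rw [map_add, map_add, LinearMap.add_apply, LinearMap.add_apply, map_add, hf, hg]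
      | monomial k a ih =>
        intro x
        rw [pow_succ, ← mul_assoc, aeval_mul_apply (C a * X ^ k), aeval_mul_apply (C a * X ^ k), ih, aeval_X, aeval_X, hcm]
    refine ⟨M v, ?_, ?_⟩
    · rw [← hpow]; exact fun h0 => hv (hinj (h0.trans (map_zero M).symm))
    · rw [← hpow, hM, Matrix.toLin'_apply, Matrix.toLin'_apply, (mem_symplectic_iff_form _).1 c.2]
      exact hsq
  obtain ⟨z, hz⟩ := FiniteField.exists_nonsquare (F := F) fun h => h2 (by
    haveI := ringChar.charP F
    have := CharP.cast_eq_zero F (ringChar F)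
    rw [h] at this
    exact_mod_cast this)
  obtain ⟨A, hA, hAs⟩ := exists_regular_unip p h2 hm (2 : F)⁻¹ (inv_ne_zero h2)
  obtain ⟨A', hA', hA's⟩ := exists_regular_unip p h2 hm (z * 2⁻¹)
    (mul_ne_zero (fun h => hz (h ▸ IsSquare.zero)) (inv_ne_zero h2))
  rw [inv_mul_cancel₀ h2] at hAs
  rw [inv_mul_cancel_right₀ h2] at hA's
  have hPA : P A := hAs.2 IsSquare.one
  have hPA' : ¬ P A' := fun h => hz (hA's.1 h)
  rw [Nat.card_eq_two_iff]
  refine ⟨⟨_, A, rfl, (regUnip_iff hm _).2 hA⟩, ⟨_, A', rfl, (regUnip_iff hm _).2 hA'⟩, fun h => hPA'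
    (hconj A A' (ConjClasses.mk_eq_mk_iff_isConj.1 (congrArg Subtype.val h)) hPA), Set.eq_univ_of_forall ?_⟩
  rintro ⟨C, u, rfl, hu⟩
  simp only [Set.mem_insert_iff, Set.mem_singleton_iff, Subtype.mk.injEq, ConjClasses.mk_eq_mk_iff_isConj]
  have hu' := (regUnip_iff hm _).1 hu
  by_cases hPu : P u
  · exact Or.inl (isConj_of_dec h2 u A (hdec u hu' true (iff_of_true hPu rfl)) (hdec A hA true (iff_of_true hPA rfl))
      (List.Perm.refl _))
  · exact Or.inr (isConj_of_dec h2 u A' (hdec u hu' false (iff_of_false hPu Bool.false_ne_true))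
      (hdec A' hA' false (iff_of_false hPA' Bool.false_ne_true)) (List.Perm.refl _))

end Cfsg.Lib.ClassNumberSp
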