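import Cfsg.Agent.Known.ClassNumberSp.Count
import Cfsg.Agent.Known.SympModel
import Mathlib

/-! The class number of the symplectic group in odd characteristic. -/

set_option autoImplicit false
set_option linter.style.haveILetI false

open Polynomial Matrix Cfsg.Lib.Classical

namespace Cfsg.Lib.ClassNumberSp

universe u

variable {F : Type u} [Field F] [Fintype F] {n : ℕ}

theorem isom_toLin (A : symplecticGroup (Fin n) F) :
    Isom (sympBilin n F) (Nat.card (symplecticGroup (Fin n) F))
      (Matrix.toLin' (A : Matrix (Fin n ⊕ Fin n) (Fin n ⊕ Fin n) F)) := by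
  refine ⟨fun u w => ?_, ?_, Nat.card_pos⟩
  · rw [Matrix.toLin'_apply, Matrix.toLin'_apply]
    exact (mem_symplectic_iff_form _).1 A.2 u w
  · rw [← Matrix.toLin'_pow, ← SubmonoidClass.coe_pow, pow_card_eq_one', Submonoid.coe_one, Matrix.toLin'_one]
    rfl

omit [Fintype F] in
theorem piece_top (a : Module.End F (Fin n ⊕ Fin n → F)) : Piece (sympBilin n F) a ⊤ :=
  ⟨fun _ _ _ => Submodule.mem_top, fun x _ h => (sympBilin_nondegenerate n F).1 x fun y => h y Submodule.mem_top⟩

theorem isConj_of_dec (h2 : (2 : F) ≠ 0) (A A' : symplecticGroup (Fin n) F) {L L' : List (Key F)}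
    (hL : Dec (sympBilin n F) (Matrix.toLin' (A : Matrix (Fin n ⊕ Fin n) (Fin n ⊕ Fin n) F)) L ⊤)
    (hL' : Dec (sympBilin n F) (Matrix.toLin' (A' : Matrix (Fin n ⊕ Fin n) (Fin n ⊕ Fin n) F)) L' ⊤)
    (h : L.Perm L') : IsConj A A' := by
  classical
  obtain ⟨f, -, hfB, hfa⟩ := iso_of_dec (isom_toLin A) (isom_toLin A') (sympBilin_isAlt n F) h2
    (hL.perm h (sympBilin_isAlt n F)) hL'
  let T : (Fin n ⊕ Fin n → F) →ₗ[F] (Fin n ⊕ Fin n → F) :=
    f.comp (LinearEquiv.ofTop ⊤ rfl).symm.toLinearMap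
  have hT : ∀ x, T x = f ⟨x, Submodule.mem_top⟩ := fun x => rfl
  have hmem : LinearMap.toMatrix' T ∈ symplecticGroup (Fin n) F := by
    rw [mem_symplectic_iff_form]
    intro u w
    rw [← Matrix.toLin'_apply, ← Matrix.toLin'_apply, Matrix.toLin'_toMatrix', hT, hT]
    exact hfB _ _
  refine isConj_iff.2 ⟨⟨_, hmem⟩, mul_inv_eq_iff_eq_mul.2 (Subtype.ext ?_)⟩
  show LinearMap.toMatrix' T * (A : Matrix (Fin n ⊕ Fin n) (Fin n ⊕ Fin n) F) =
    (A' : Matrix (Fin n ⊕ Fin n) (Fin n ⊕ Fin n) F) * LinearMap.toMatrix' T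
  apply Matrix.toLin'.injective
  rw [Matrix.toLin'_mul, Matrix.toLin'_mul, Matrix.toLin'_toMatrix']
  refine LinearMap.ext fun x => ?_
  show T (Matrix.toLin' (A : Matrix (Fin n ⊕ Fin n) (Fin n ⊕ Fin n) F) x) =
    Matrix.toLin' (A' : Matrix (Fin n ⊕ Fin n) (Fin n ⊕ Fin n) F) (T x)
  rw [hT, hT]
  exact hfa ⟨x, Submodule.mem_top⟩ Submodule.mem_top

omit [Fintype F] in
theorem Dec.valid {V : Type*} [AddCommGroup V] [Module F V] {B : LinearMap.BilinForm F V} {a : Module.End F V}
    {L : List (Key F)} {W : Submodule F V} (h : Dec B a L W) {k : Key F} (hk : k ∈ L) : k.Valid := by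
  obtain ⟨U, -, hU⟩ := h.exists_mem hk
  rcases k with ⟨Q, e⟩ | ⟨b, e, s⟩ | ⟨b, e⟩
  · exact ⟨hU.1, hU.2.1⟩
  · exact ⟨hU.1, hU.2.1⟩
  · obtain ⟨v, w, hp, -⟩ := hU
    exact hp.odd

omit [Fintype F] in
theorem numNsq_le_one {L : List (Key F)} (h : Normal L) (b : Bool) (e : ℕ) : numNsq (L : Multiset (Key F)) b e ≤ 1 := by
  classical
  rw [numNsq, sum_ite_eq_count (L : Multiset (Key F)) (Key.one b e false) _ 1 (fun k _ => ?_), mul_one,
    Multiset.coe_count]
  · by_contra hlt
    have hmem : Key.one b e false ∈ L := List.count_pos_iff.1 (by omega)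
    refine h b e _ (List.perm_cons_erase hmem) (List.count_pos_iff.1 ?_)
    rw [List.count_erase_self]
    omega
  · rcases k with ⟨Q, e'⟩ | ⟨b', e', s'⟩ | ⟨b', e'⟩ <;> simp [Key.nsq]

theorem card_classes_le (hodd : Odd (Fintype.card F)) (n : ℕ) :
    5 * Nat.card (ConjClasses (symplecticGroup (Fin n) F)) ≤ 54 * Fintype.card F ^ n := by
  classical
  have h2 : (2 : F) ≠ 0 := Ring.two_ne_zero fun h => by
    have := FiniteField.even_card_of_char_two h
    rw [Nat.odd_iff] at hodd
    omega
  have hq : 3 ≤ Fintype.card F := by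
    have := Fintype.one_lt_card (α := F)
    rw [Nat.odd_iff] at hodd
    omega
  have hdec : ∀ C : ConjClasses (symplecticGroup (Fin n) F), ∃ L, Dec (sympBilin n F)
      (Matrix.toLin' ((Quotient.out C : symplecticGroup (Fin n) F) : Matrix (Fin n ⊕ Fin n) (Fin n ⊕ Fin n) F)) L ⊤ ∧
      Normal L := fun C =>
    exists_dec (isom_toLin _) (sympBilin_isAlt n F) h2 _ ⊤ (piece_top _) le_rfl
  choose L hL hLn using hdec
  have hinj : Function.Injective fun C => (L C : Multiset (Key F)) := fun C C' h => by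
    rw [← Quotient.out_eq C, ← Quotient.out_eq C']
    exact Quotient.sound (isConj_of_dec h2 _ _ (hL C) (hL C') (Multiset.coe_eq_coe.1 h))
  obtain ⟨-, hcard⟩ := card_labels_le h2 n _ hinj (fun C k hk => (hL C).valid (Multiset.mem_coe.1 hk))
    (fun C => numNsq_le_one (hLn C)) fun C => by
      rw [Multiset.map_coe, Multiset.sum_coe, ← (hL C).finrank (isom_toLin _) (sympBilin_isAlt n F) h2, finrank_top,
        Module.finrank_pi, Fintype.card_sum, Fintype.card_fin, two_mul]
  have h := ((Nat.cast_le (α := ℚ)).2 hcard).trans ((sum_patterns_le (Fintype.card F) n (by omega)).trans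
    (mul_le_mul_of_nonneg_right (spCoef_le (Fintype.card F) hq (2 * n)) (by positivity)))
  rw [← Nat.cast_le (α := ℚ)]
  push_cast
  linarith

omit [Fintype F] in
theorem pal_coeff_zero {g : F[X]} (hm : g.Monic) (hr : g.reverse = g) : g.coeff 0 = 1 := by
  rw [← hr, coeff_zero_reverse]; exact hm

theorem le_card_classes (n : ℕ) : Fintype.card F ^ n ≤ Nat.card (ConjClasses (symplecticGroup (Fin n) F)) := by
  classical
  obtain ⟨p, hp⟩ := CharP.exists F
  haveI : Fact p.Prime := ⟨CharP.char_is_prime F p⟩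
  -- palindromic polynomials from their lower coefficients
  let co : (Fin n → F) → ℕ → F := fun a k => if h : k - 1 < n then a ⟨k - 1, h⟩ else 0
  let mk : (Fin n → F) → F[X] := fun a =>
    X ^ (2 * n) + ∑ k ∈ Finset.range (2 * n),
      C (if k = 0 then 1 else if k ≤ n then co a k else co a (2 * n - k)) * X ^ k
  rcases Nat.eq_zero_or_pos n with rfl | hn
  · rw [pow_zero]; exact Nat.card_pos
  have hcoef : ∀ a k, (mk a).coeff k = if k = 2 * n then 1 else if k = 0 then 1 else if k ≤ n then co a k else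
      if k < 2 * n then co a (2 * n - k) else 0 := by
    intro a k
    simp only [mk, coeff_add, coeff_X_pow, finset_sum_coeff, coeff_C_mul]
    by_cases hk : k < 2 * n
    · rw [Finset.sum_eq_single k (fun j _ hj => by rw [if_neg (Ne.symm hj), mul_zero])
        (fun h => absurd (Finset.mem_range.2 hk) h), if_pos rfl, mul_one]
      have hne : ¬ k = 2 * n := by omega
      simp only [hne, hk, if_false, if_true, zero_add]
    · rw [Finset.sum_eq_zero (fun j hj => by
        rw [if_neg (show ¬ k = j by have := Finset.mem_range.1 hj; omega), mul_zero]), add_zero]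
      split_ifs <;> first | rfl | omega
  have hdeg : ∀ a, (mk a).natDegree = 2 * n ∧ (mk a).Monic := by
    intro a
    have h1 : (mk a).natDegree ≤ 2 * n := natDegree_le_iff_coeff_eq_zero.2 fun k hk => by
      rw [hcoef, if_neg (by omega), if_neg (by omega), if_neg (by omega), if_neg (by omega)]
    have h2 : (mk a).coeff (2 * n) = 1 := by rw [hcoef, if_pos rfl]
    have h3 : (mk a).natDegree = 2 * n := le_antisymm h1 (le_natDegree_of_ne_zero (by rw [h2]; exact one_ne_zero))
    exact ⟨h3, by rw [Monic, leadingCoeff, h3, h2]⟩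
  have hrev : ∀ a, (mk a).reverse = mk a := by
    intro a
    ext k
    rw [coeff_reverse, (hdeg a).1]
    rcases le_or_gt k (2 * n) with hk | hk
    · rw [revAt_le hk, hcoef, hcoef]
      split_ifs <;> first | rfl | omega | (congr 1; omega)
    · rw [revAt_eq_self_of_lt hk]
  choose A hA1 hA2 using fun a => SympModel.exists_model p n (mk a) (hdeg a).2 (hdeg a).1 (hrev a)
  refine le_trans (le_of_eq ?_) (Nat.card_le_card_of_injective (fun a => ConjClasses.mk (A a)) fun a b h => ?_)
  · simp [Nat.card_eq_fintype_card]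
  · obtain ⟨c, hc⟩ := isConj_iff.1 (ConjClasses.mk_eq_mk_iff_isConj.1 h)
    have hpoly : mk a = mk b := by
      rw [← hA2 a, ← hA2 b, ← hc, Submonoid.coe_mul, Submonoid.coe_mul, Matrix.charpoly_mul_comm, ← mul_assoc,
        ← Submonoid.coe_mul, inv_mul_cancel, Submonoid.coe_one, one_mul]
    funext i
    have := congrArg (fun g : F[X] => g.coeff ((i : ℕ) + 1)) hpoly
    simp only [hcoef] at this
    have hi := i.isLt
    rw [if_neg (by omega), if_neg (by omega), if_pos (by omega), if_neg (by omega), if_neg (by omega),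
      if_pos (by omega)] at this
    simpa [co, hi] using this

end Cfsg.Lib.ClassNumberSp
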