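import Cfsg.Agent.Known.ClassNumberSp.Decomp
import Mathlib

/-! Counting the possible labelled decompositions. -/

set_option autoImplicit false
set_option linter.style.haveILetI false

open Polynomial UniqueFactorizationMonoid
open scoped Classical

namespace Cfsg.Lib.ClassNumberSp

universe u

variable {F : Type u} [Field F]

/-- The conditions on labels imposed by blocks. -/
def Key.Valid : Key F → Prop
  | .cyc Q e => GoodQ Q ∧ 1 ≤ e
  | .one _ e _ => 1 ≤ e ∧ Even e
  | .pair _ e => Odd e

/-- The contribution of a label to the polynomial attached to an exponent. -/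
noncomputable def Key.part (e : ℕ) : Key F → F[X]
  | .cyc Q e' => if e' = e then Q else 1
  | .one _ _ _ => 1
  | .pair b e' => if e' = e then (X - C (sgn F b)) ^ 2 else 1

/-- The contribution of a label to the number of single unipotent blocks. -/
noncomputable def Key.ones (b : Bool) (e : ℕ) : Key F → ℕ
  | .one b' e' _ => if b' = b ∧ e' = e then 1 else 0
  | _ => 0

/-- The contribution of a label to the number of nonsquare unipotent blocks. -/
noncomputable def Key.nsq (b : Bool) (e : ℕ) : Key F → ℕ
  | .one b' e' s => if b' = b ∧ e' = e ∧ s = false then 1 else 0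
  | _ => 0

variable (F) in
/-- A monic palindromic polynomial of degree `2 j`. -/
def Pal (j : ℕ) : Type u := {g : F[X] // g.Monic ∧ g.natDegree = 2 * j ∧ g.reverse = g}

theorem card_pal_le [Fintype F] (j : ℕ) : Finite (Pal F j) ∧ Nat.card (Pal F j) ≤ Fintype.card F ^ j := by
  let f : Pal F j → (Fin j → F) := fun g i => g.1.coeff ((i : ℕ) + 1)
  have hf : Function.Injective f := by
    intro g g' h
    have key : ∀ g : Pal F j, ∀ k ≤ 2 * j, g.1.coeff k = g.1.coeff (2 * j - k) := fun g k hk => by
      conv_lhs => rw [← g.2.2.2, coeff_reverse, g.2.2.1, revAt_le hk]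
    have low : ∀ k, 1 ≤ k → k ≤ j → g.1.coeff k = g'.1.coeff k := fun k h1 h2 => by
      have := congrFun h ⟨k - 1, by omega⟩
      simp only [f, Nat.sub_add_cancel h1] at this
      exact this
    have top : g.1.coeff (2 * j) = g'.1.coeff (2 * j) := by
      have h1 := g.2.1
      have h2 := g'.2.1
      rw [Monic, leadingCoeff, g.2.2.1] at h1
      rw [Monic, leadingCoeff, g'.2.2.1] at h2
      rw [h1, h2]
    refine Subtype.ext (Polynomial.ext fun k => ?_)
    rcases Nat.lt_or_ge (2 * j) k with hk | hk
    · rw [coeff_eq_zero_of_natDegree_lt (by rw [g.2.2.1]; omega),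
        coeff_eq_zero_of_natDegree_lt (by rw [g'.2.2.1]; omega)]
    rcases Nat.eq_zero_or_pos k with rfl | hk0
    · rw [key g 0 hk, key g' 0 hk]; exact top
    rcases Nat.lt_or_ge j k with hjk | hjk
    · rcases eq_or_lt_of_le hk with rfl | hlt
      · exact top
      · rw [key g k hk, key g' k hk, low _ (by omega) (by omega)]
    · exact low k hk0 hjk
  exact ⟨Finite.of_injective f hf, (Nat.card_le_card_of_injective f hf).trans_eq (by simp [Nat.card_eq_fintype_card])⟩

theorem sum_map_le {α : Type*} (L : Multiset α) (f g : α → ℕ) (h : ∀ k ∈ L, f k ≤ g k) :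
    (L.map f).sum ≤ (L.map g).sum :=
  Multiset.sum_map_le_sum_map _ _ h

/-- The number of single blocks. -/
noncomputable def numOnes (L : Multiset (Key F)) (b : Bool) (e : ℕ) : ℕ := (L.map (Key.ones b e)).sum

/-- The number of nonsquare single blocks. -/
noncomputable def numNsq (L : Multiset (Key F)) (b : Bool) (e : ℕ) : ℕ := (L.map (Key.nsq b e)).sum

/-- The two bits recording the single blocks at one eigenvalue. -/
noncomputable def bits (L : Multiset (Key F)) (b : Bool) (e : ℕ) (c : Bool) : Bool :=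
  if numOnes L b e % 2 = 0 then decide (numNsq L b e = 1) else decide (numNsq L b e = cond c 1 0)

/-- The number of pairs of single blocks left after removing the bits. -/
noncomputable def halves (L : Multiset (Key F)) (b : Bool) (e : ℕ) : ℕ :=
  (numOnes L b e - ((bits L b e false).toNat + (bits L b e true).toNat)) / 2

/-- The polynomial of an exponent. -/
noncomputable def poly (L : Multiset (Key F)) (e : ℕ) : F[X] :=
  (L.map (Key.part e)).prod *
    ((X - C (sgn F true)) ^ (2 * halves L true e) * (X - C (sgn F false)) ^ (2 * halves L false e))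

theorem bits_spec (L : Multiset (Key F)) (b : Bool) (e : ℕ) (h : numNsq L b e ≤ 1) :
    numOnes L b e = (bits L b e false).toNat + (bits L b e true).toNat + 2 * halves L b e ∧
      ((bits L b e false = true ∧ bits L b e true = true) ∨ (bits L b e false = false ∧ bits L b e true = true) →
        numNsq L b e = 1) ∧
      ((bits L b e false = false ∧ bits L b e true = false) ∨ (bits L b e false = true ∧ bits L b e true = false) →
        numNsq L b e = 0) := by
  have hle : numNsq L b e ≤ numOnes L b e := by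
    refine sum_map_le _ _ _ fun k _ => ?_
    rcases k with ⟨Q, e'⟩ | ⟨b', e', s⟩ | ⟨b', e'⟩ <;> simp only [Key.nsq, Key.ones, le_refl]
    split_ifs <;> simp_all
  rcases Nat.le_one_iff_eq_zero_or_eq_one.1 h with h0 | h1
  · rcases Nat.mod_two_eq_zero_or_one (numOnes L b e) with hm | hm <;>
      simp [bits, halves, h0, hm] <;> omega
  · rcases Nat.mod_two_eq_zero_or_one (numOnes L b e) with hm | hm <;>
      simp [bits, halves, h1, hm] <;> omega

theorem reverse_prod (M : Multiset F[X]) (h : ∀ g ∈ M, g.reverse = g) : M.prod.reverse = M.prod := by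
  induction M using Multiset.induction with
  | empty => simp [Polynomial.reverse]
  | cons g M ih =>
    rw [Multiset.prod_cons, reverse_mul_of_domain, h g (Multiset.mem_cons_self g M),
      ih fun x hx => h x (Multiset.mem_cons_of_mem hx)]

theorem linear_sq_props (b : Bool) (k : ℕ) :
    ((X - C (sgn F b)) ^ (2 * k)).Monic ∧ ((X - C (sgn F b)) ^ (2 * k)).reverse = (X - C (sgn F b)) ^ (2 * k) ∧
      ((X - C (sgn F b)) ^ (2 * k)).natDegree = 2 * k :=
  ⟨(monic_X_sub_C _).pow _, reverse_linear_even b (even_two_mul k), by rw [natDegree_pow, natDegree_X_sub_C, mul_one]⟩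

theorem part_props (h2 : (2 : F) ≠ 0) {k : Key F} (hk : k.Valid) (e : ℕ) :
    (k.part e).Monic ∧ (k.part e).reverse = k.part e ∧ Even (k.part e).natDegree := by
  have h1 : (1 : F[X]).reverse = 1 := by simp [Polynomial.reverse]
  rcases k with ⟨Q, e'⟩ | ⟨b, e', s⟩ | ⟨b, e'⟩ <;> simp only [Key.part]
  · split_ifs
    · obtain ⟨hm, hr, -, hd, -⟩ := (show GoodQ Q from hk.1).props h2
      exact ⟨hm, hr, hd⟩
    · exact ⟨monic_one, h1, by simp⟩
  · exact ⟨monic_one, h1, by simp⟩
  · split_ifs
    · obtain ⟨hm, hr, hd⟩ := linear_sq_props (F := F) b 1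
      rw [mul_one] at hm hr hd
      exact ⟨hm, hr, by rw [hd]; exact even_two⟩
    · exact ⟨monic_one, h1, by simp⟩

theorem poly_props (h2 : (2 : F) ≠ 0) {L : Multiset (Key F)} (hL : ∀ k ∈ L, k.Valid) (e : ℕ) :
    (poly L e).Monic ∧ (poly L e).reverse = poly L e ∧
      (poly L e).natDegree = (L.map fun k => (k.part e).natDegree).sum + 2 * (halves L true e + halves L false e) ∧
      Even (poly L e).natDegree := by
  have hm : ∀ g ∈ L.map (Key.part e), g.Monic ∧ g.reverse = g ∧ Even g.natDegree := fun g hg => by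
    obtain ⟨k, hk, rfl⟩ := Multiset.mem_map.1 hg
    exact part_props h2 (hL k hk) e
  have hpm : (L.map (Key.part e)).prod.Monic :=
    monic_multiset_prod_of_monic L (Key.part e) fun k hk => (part_props h2 (hL k hk) e).1
  obtain ⟨m1, r1, d1⟩ := linear_sq_props (F := F) true (halves L true e)
  obtain ⟨m2, r2, d2⟩ := linear_sq_props (F := F) false (halves L false e)
  have hdeg : (poly L e).natDegree =
      (L.map fun k => (k.part e).natDegree).sum + 2 * (halves L true e + halves L false e) := by
    rw [poly, hpm.natDegree_mul (m1.mul m2), m1.natDegree_mul m2, d1, d2, natDegree_multiset_prod_of_monic _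
      (fun g hg => (hm g hg).1), Multiset.map_map, mul_add]
    rfl
  refine ⟨hpm.mul (m1.mul m2), ?_, hdeg, ?_⟩
  · rw [poly, reverse_mul_of_domain, reverse_mul_of_domain, r1, r2, reverse_prod _ fun g hg => (hm g hg).2.1]
  · rw [hdeg]
    refine Even.add (even_iff_two_dvd.2 (Multiset.dvd_sum fun x hx => ?_)) (even_two_mul _)
    obtain ⟨k, hk, rfl⟩ := Multiset.mem_map.1 hx
    exact even_iff_two_dvd.1 (part_props h2 (hL k hk) e).2.2

theorem count_prod (P : F[X]) (M : Multiset F[X]) (h : ∀ g ∈ M, g ≠ 0) :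
    Multiset.count P (normalizedFactors M.prod) = (M.map fun g => Multiset.count P (normalizedFactors g)).sum := by
  induction M using Multiset.induction with
  | empty => simp
  | cons g M ih =>
    rw [Multiset.prod_cons, normalizedFactors_mul (h g (Multiset.mem_cons_self g M))
      (Multiset.prod_ne_zero fun h0 => h 0 (Multiset.mem_cons_of_mem h0) rfl), Multiset.count_add, Multiset.map_cons,
      Multiset.sum_cons, ih fun x hx => h x (Multiset.mem_cons_of_mem hx)]

theorem nf_irreducible {P : F[X]} (hm : P.Monic) (hi : Irreducible P) : normalizedFactors P = {P} := by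
  rw [normalizedFactors_irreducible hi, hm.normalize_eq_self]

theorem count_linear_pow (P : F[X]) (b : Bool) (k : ℕ) :
    Multiset.count P (normalizedFactors ((X - C (sgn F b)) ^ k)) =
      k * Multiset.count P ({X - C (sgn F b)} : Multiset F[X]) := by
  rw [normalizedFactors_pow, nf_irreducible (monic_X_sub_C _) (irreducible_X_sub_C _), Multiset.count_nsmul]

theorem goodQ_count (h2 : (2 : F) ≠ 0) {Q : F[X]} (hQ : GoodQ Q) :
    ∃ P : F[X], (∀ b, P ≠ X - C (sgn F b)) ∧ Multiset.count P (normalizedFactors Q) = 1 ∧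
      ∀ Q', GoodQ Q' → Q' ≠ Q → Multiset.count P (normalizedFactors Q') = 0 := by
  classical
  obtain ⟨P, hm, hi, h0, hX, rfl⟩ := hQ
  refine ⟨P, fun b h => not_eval_of_irreducible hi hX b (by rw [h]; simp), ?_, ?_⟩
  · rw [symPoly]
    split_ifs with h
    · rw [nf_irreducible hm hi, Multiset.count_singleton_self]
    · rw [normalizedFactors_mul hm.ne_zero (DualPoly.dual_monic h0).ne_zero, nf_irreducible hm hi,
        nf_irreducible (DualPoly.dual_monic h0) (DualPoly.dual_irreducible (fun _ => rfl) hm hi h0),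
        Multiset.count_add, Multiset.count_singleton_self, Multiset.count_singleton, if_neg (Ne.symm h)]
  · rintro Q' ⟨P', hm', hi', h0', -, rfl⟩ hne
    rw [Multiset.count_eq_zero]
    intro hmem
    apply hne
    have hd := DualPoly.dual_dual (σ := RingHom.id F) (fun _ => rfl) hm' h0'
    have hD : normalizedFactors (symPoly P') ⊆ {P', DualPoly.dual (RingHom.id F) P'} := by
      intro x hx
      rw [symPoly] at hx
      split_ifs at hx with h
      · rw [nf_irreducible hm' hi'] at hx
        simp [Multiset.mem_singleton.1 hx]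
      · rw [normalizedFactors_mul hm'.ne_zero (DualPoly.dual_monic h0').ne_zero, nf_irreducible hm' hi',
          nf_irreducible (DualPoly.dual_monic h0') (DualPoly.dual_irreducible (fun _ => rfl) hm' hi' h0')] at hx
        simpa using hx
    have := hD hmem
    simp only [Multiset.insert_eq_cons, Multiset.mem_cons, Multiset.mem_singleton] at this
    rcases this with rfl | rfl
    · rfl
    · simp only [symPoly, hd]
      by_cases h : DualPoly.dual (RingHom.id F) P' = P'
      · rw [if_pos h, if_pos h.symm, h]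
      · rw [if_neg h, if_neg (Ne.symm h), mul_comm]

theorem sum_ite_eq_count [DecidableEq (Key F)] (L : Multiset (Key F)) (k0 : Key F) (f : Key F → ℕ) (c : ℕ)
    (h : ∀ k ∈ L, f k = if k = k0 then c else 0) : (L.map f).sum = L.count k0 * c := by
  rw [Multiset.map_congr rfl h]
  induction L using Multiset.induction with
  | empty => simp
  | cons a L ih =>
    rw [Multiset.map_cons, Multiset.sum_cons, ih fun k hk => h k (Multiset.mem_cons_of_mem hk), Multiset.count_cons]
    by_cases ha : a = k0
    · rw [if_pos ha, if_pos ha.symm]; ring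
    · rw [if_neg ha, if_neg (Ne.symm ha)]; ring

theorem poly_count (h2 : (2 : F) ≠ 0) {L : Multiset (Key F)} (hL : ∀ k ∈ L, k.Valid) (P : F[X]) (e : ℕ) :
    Multiset.count P (normalizedFactors (poly L e)) =
      (L.map fun k => Multiset.count P (normalizedFactors (k.part e))).sum +
        (2 * halves L true e * Multiset.count P ({X - C (sgn F true)} : Multiset F[X]) +
          2 * halves L false e * Multiset.count P ({X - C (sgn F false)} : Multiset F[X])) := by
  have hne : ∀ g ∈ L.map (Key.part e), g ≠ 0 := fun g hg => by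
    obtain ⟨k, hk, rfl⟩ := Multiset.mem_map.1 hg
    exact (part_props h2 (hL k hk) e).1.ne_zero
  rw [poly, normalizedFactors_mul (Multiset.prod_ne_zero fun h0 => hne 0 h0 rfl)
    (mul_ne_zero (pow_ne_zero _ (X_sub_C_ne_zero _)) (pow_ne_zero _ (X_sub_C_ne_zero _))),
    normalizedFactors_mul (pow_ne_zero _ (X_sub_C_ne_zero _)) (pow_ne_zero _ (X_sub_C_ne_zero _)),
    Multiset.count_add, Multiset.count_add, count_linear_pow, count_linear_pow, count_prod P _ hne, Multiset.map_map]
  rfl

theorem linear_ne (h2 : (2 : F) ≠ 0) {b b' : Bool} (h : b ≠ b') : X - C (sgn F b) ≠ X - C (sgn F b') := by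
  intro e
  have := C_inj.1 (sub_right_injective e)
  cases b <;> cases b' <;> simp [sgn] at this h
  · exact h2 (by linear_combination -this)
  · exact h2 (by linear_combination this)

/-- The polynomials and bits determine a normal multiset of labels. -/
theorem eq_of_data (h2 : (2 : F) ≠ 0) {L L' : Multiset (Key F)} (hL : ∀ k ∈ L, k.Valid) (hL' : ∀ k ∈ L', k.Valid)
    (hn : ∀ b e, numNsq L b e ≤ 1) (hn' : ∀ b e, numNsq L' b e ≤ 1)
    (hp : ∀ e, 1 ≤ e → poly L e = poly L' e) (hb : ∀ b r c, bits L b (2 * (r + 1)) c = bits L' b (2 * (r + 1)) c) :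
    L = L' := by
  classical
  have hnone : ∀ (M : Multiset (Key F)), (∀ k ∈ M, k.Valid) → ∀ b e, ¬ (1 ≤ e ∧ Even e) →
      numOnes M b e = 0 ∧ halves M b e = 0 := by
    intro M hM b e he
    have h0 : numOnes M b e = 0 := by
      rw [numOnes, Multiset.sum_eq_zero_iff]
      intro x hx
      obtain ⟨k, hk, rfl⟩ := Multiset.mem_map.1 hx
      rcases k with ⟨Q, e'⟩ | ⟨b', e', s⟩ | ⟨b', e'⟩ <;> simp only [Key.ones]
      rw [if_neg]
      rintro ⟨-, rfl⟩
      exact he (hM _ hk)
    exact ⟨h0, by rw [halves, h0, Nat.zero_sub, Nat.zero_div]⟩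
  have hlin : ∀ (M : Multiset (Key F)), (∀ k ∈ M, k.Valid) → ∀ b e,
      Multiset.count (X - C (sgn F b)) (normalizedFactors (poly M e)) =
        2 * M.count (Key.pair b e) + 2 * halves M b e := by
    intro M hM b e
    rw [poly_count h2 hM, sum_ite_eq_count M (Key.pair b e) _ 2 ?_]
    · have hne := linear_ne (F := F) h2 (show (!b) ≠ b by cases b <;> decide)
      cases b
      · simp only [Bool.not_false] at hne
        rw [Multiset.count_singleton_self, Multiset.count_singleton, if_neg (Ne.symm hne)]; ring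
      · simp only [Bool.not_true] at hne
        rw [Multiset.count_singleton_self, Multiset.count_singleton, if_neg (Ne.symm hne)]; ring
    · intro k hk
      have hv := hM k hk
      rcases k with ⟨Q, e'⟩ | ⟨b', e', s⟩ | ⟨b', e'⟩
      · simp only [Key.part, reduceCtorEq, if_false]
        split_ifs
        · obtain ⟨P, hm, hi, h0, hX, rfl⟩ := (show GoodQ Q from hv.1)
          rw [Multiset.count_eq_zero]
          intro hmem
          have hdv := dvd_of_mem_normalizedFactors hmem
          obtain ⟨-, -, hcop, -, -⟩ := (show GoodQ (symPoly P) from ⟨P, hm, hi, h0, hX, rfl⟩).props h2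
          have := hcop.isUnit_of_dvd' hdv (dvd_iff_isRoot.2 (by simp [sq, sgn_sq]))
          exact not_isUnit_X_sub_C _ this
        · simp
      · simp [Key.part]
      · simp only [Key.part, Key.pair.injEq]
        split_ifs with h1 h3 h3
        · rw [count_linear_pow, h3.1, Multiset.count_singleton_self]
        · rw [count_linear_pow, Multiset.count_singleton,
            if_neg (linear_ne h2 fun hbb : b = b' => h3 ⟨hbb.symm, h1⟩)]
        · exact absurd h3.2 h1
        · simp
  refine Multiset.ext.2 fun k => ?_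
  by_cases hv : k.Valid
  swap
  · rw [Multiset.count_eq_zero.2 fun h => hv (hL k h), Multiset.count_eq_zero.2 fun h => hv (hL' k h)]
  rcases k with ⟨Q, e⟩ | ⟨b, e, s⟩ | ⟨b, e⟩
  · obtain ⟨hQ, he⟩ := hv
    obtain ⟨P, hPl, hP1, hP0⟩ := goodQ_count h2 hQ
    have key : ∀ (M : Multiset (Key F)), (∀ k ∈ M, k.Valid) →
        Multiset.count P (normalizedFactors (poly M e)) = M.count (Key.cyc Q e) := by
      intro M hM
      rw [poly_count h2 hM, sum_ite_eq_count M (Key.cyc Q e) _ 1 ?_, Multiset.count_singleton,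
        Multiset.count_singleton, if_neg (hPl true), if_neg (hPl false)]
      · simp
      · intro k hk
        have hkv := hM k hk
        rcases k with ⟨Q', e'⟩ | ⟨b', e', s⟩ | ⟨b', e'⟩
        · simp only [Key.part, Key.cyc.injEq]
          split_ifs with h1 h3 h3
          · rw [h3.1, hP1]
          · exact hP0 Q' hkv.1 fun h => h3 ⟨h, h1⟩
          · exact absurd h3.2 h1
          · simp
        · simp [Key.part]
        · simp only [Key.part, reduceCtorEq, if_false]
          split_ifs
          · rw [count_linear_pow, Multiset.count_singleton, if_neg (hPl b'), mul_zero]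
          · simp
    rw [← key L hL, ← key L' hL', hp e he]
  · obtain ⟨he, heven⟩ := hv
    obtain ⟨r, hr⟩ := heven
    obtain ⟨r', rfl⟩ : ∃ r', e = 2 * (r' + 1) := ⟨r - 1, by omega⟩
    have hz : ∀ (M : Multiset (Key F)), (∀ k ∈ M, k.Valid) → M.count (Key.pair b (2 * (r' + 1))) = 0 := fun M hM =>
      Multiset.count_eq_zero.2 fun hk => by
        have := (hM _ hk : Odd (2 * (r' + 1)))
        exact (Nat.not_even_iff_odd.2 this) (even_two_mul _)
    have h1 := hlin L hL b (2 * (r' + 1))
    have h1' := hlin L' hL' b (2 * (r' + 1))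
    rw [hp _ (by omega), h1', hz L hL, hz L' hL'] at h1
    obtain ⟨a1, b1, c1⟩ := bits_spec L b (2 * (r' + 1)) (hn _ _)
    obtain ⟨a2, b2, c2⟩ := bits_spec L' b (2 * (r' + 1)) (hn' _ _)
    rw [← hb b r' false, ← hb b r' true] at a2 b2 c2
    have hN : numNsq L b (2 * (r' + 1)) = numNsq L' b (2 * (r' + 1)) := by
      revert b1 c1 b2 c2
      cases bits L b (2 * (r' + 1)) false <;> cases bits L b (2 * (r' + 1)) true <;> simp <;> omega
    have e1 : ∀ (M : Multiset (Key F)), numNsq M b (2 * (r' + 1)) = M.count (Key.one b (2 * (r' + 1)) false) := fun M => by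
      rw [numNsq, sum_ite_eq_count M (Key.one b (2 * (r' + 1)) false) _ 1 ?_, mul_one]
      intro k _
      rcases k with ⟨Q, e'⟩ | ⟨b', e', s'⟩ | ⟨b', e'⟩ <;> simp [Key.nsq]
    have e2 : ∀ (M : Multiset (Key F)), numOnes M b (2 * (r' + 1)) =
        M.count (Key.one b (2 * (r' + 1)) false) + M.count (Key.one b (2 * (r' + 1)) true) := fun M => by
      induction M using Multiset.induction with
      | empty => simp [numOnes]
      | cons k M ih =>
        rw [numOnes, Multiset.map_cons, Multiset.sum_cons, ← numOnes, ih, Multiset.count_cons, Multiset.count_cons]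
        rcases k with ⟨Q, e'⟩ | ⟨b', e', s'⟩ | ⟨b', e'⟩
        · simp [Key.ones]
        · simp only [Key.ones, Key.one.injEq]
          by_cases hbe : b' = b ∧ e' = 2 * (r' + 1)
          · obtain ⟨rfl, rfl⟩ := hbe
            cases s' <;> simp <;> omega
          · rw [if_neg hbe, if_neg (fun h => hbe ⟨h.1.symm, h.2.1.symm⟩), if_neg (fun h => hbe ⟨h.1.symm, h.2.1.symm⟩)]
            omega
        · simp [Key.ones]
    have := e1 L
    have := e1 L'
    have := e2 L
    have := e2 L'
    cases s <;> omega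
  · have h1 := hlin L hL b e
    have hno : ¬ (1 ≤ e ∧ Even e) := fun h => Nat.not_even_iff_odd.2 hv h.2
    have h1' := hlin L' hL' b e
    rw [hp _ hv.pos, h1', (hnone L hL b e hno).2, (hnone L' hL' b e hno).2] at h1
    omega

theorem part_size (h2 : (2 : F) ≠ 0) {k : Key F} (hk : k.Valid) {n : ℕ} (hn : k.size ≤ 2 * n) :
    ∑ i ∈ Finset.range (2 * n), ((i + 1) * (k.part (i + 1)).natDegree) +
      ∑ r ∈ Finset.range n, 2 * (r + 1) * (k.ones true (2 * (r + 1)) + k.ones false (2 * (r + 1))) = k.size := by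
  have d1 : ((1 : F[X])).natDegree = 0 := natDegree_one
  rcases k with ⟨Q, e⟩ | ⟨b, e, s⟩ | ⟨b, e⟩
  · obtain ⟨hQ, he⟩ := hk
    have hd : 2 ≤ Q.natDegree := (hQ.props h2).2.2.2.2
    have he2 : e ≤ 2 * n := le_trans (Nat.le_mul_of_pos_left e (by omega)) hn
    simp only [Key.ones, add_zero, mul_zero, Finset.sum_const_zero, Key.part, Key.size]
    rw [Finset.sum_eq_single (e - 1)]
    · rw [Nat.sub_add_cancel he, if_pos rfl, mul_comm]
    · intro i _ hi; rw [if_neg (by omega), d1, mul_zero]
    · intro h; exact absurd (Finset.mem_range.2 (by omega)) h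
  · obtain ⟨he, r, hr⟩ := hk
    simp only [Key.size] at hn
    simp only [Key.part, d1, mul_zero, Finset.sum_const_zero, zero_add, Key.ones, Key.size]
    rw [Finset.sum_eq_single (r - 1)]
    · have : e = 2 * (r - 1 + 1) := by omega
      cases b <;> simp [← this]
    · intro i _ hi
      rw [if_neg (by omega), if_neg (by omega), add_zero, mul_zero]
    · intro h; exact absurd (Finset.mem_range.2 (by omega)) h
  · simp only [Key.size] at hn
    have he := (show Odd e from hk).pos
    simp only [Key.ones, add_zero, mul_zero, Finset.sum_const_zero, Key.part, Key.size]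
    rw [Finset.sum_eq_single (e - 1)]
    · rw [Nat.sub_add_cancel he, if_pos rfl, natDegree_pow, natDegree_X_sub_C, mul_one, mul_comm]
    · intro i _ hi; rw [if_neg (by omega), d1, mul_zero]
    · intro h; exact absurd (Finset.mem_range.2 (by omega)) h

/-- The admissible degree and bit patterns. -/
def patterns (n : ℕ) : Finset ((Fin (2 * n) → ℕ) × (Fin n → Bool → Bool → Bool)) :=
  ((Fintype.piFinset fun _ : Fin (2 * n) => Finset.range (n + 1)) ×ˢ Finset.univ).filter fun p =>
    ∑ i : Fin (2 * n), ((i : ℕ) + 1) * p.1 i + ∑ r : Fin n, ((r : ℕ) + 1) *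
      (((p.2 r true false).toNat + (p.2 r true true).toNat) + ((p.2 r false false).toNat + (p.2 r false true).toNat)) = n

theorem data_mem (h2 : (2 : F) ≠ 0) {L : Multiset (Key F)} (hL : ∀ k ∈ L, k.Valid) (hn : ∀ b e, numNsq L b e ≤ 1)
    {n : ℕ} (hsz : (L.map Key.size).sum = 2 * n) :
    ((fun i : Fin (2 * n) => (poly L ((i : ℕ) + 1)).natDegree / 2,
      fun (r : Fin n) b c => bits L b (2 * ((r : ℕ) + 1)) c) ∈ patterns n) ∧
      ∀ e, 2 * n < e → poly L e = 1 ∧ ∀ b c, bits L b e c = false := by
  classical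
  have hsize : ∀ k ∈ L, k.size ≤ 2 * n := fun k hk => hsz ▸ Multiset.le_sum_of_mem (Multiset.mem_map_of_mem _ hk)
  have hodd : ∀ b e, ¬ (1 ≤ e ∧ Even e ∧ e ≤ 2 * n) → numOnes L b e = 0 ∧ halves L b e = 0 := by
    intro b e he
    have h0 : numOnes L b e = 0 := by
      rw [numOnes, Multiset.sum_eq_zero_iff]
      intro x hx
      obtain ⟨k, hk, rfl⟩ := Multiset.mem_map.1 hx
      rcases k with ⟨Q, e'⟩ | ⟨b', e', s⟩ | ⟨b', e'⟩ <;> simp only [Key.ones]
      rw [if_neg]
      rintro ⟨-, rfl⟩
      exact he ⟨(hL _ hk).1, (hL _ hk).2, hsize _ hk⟩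
    exact ⟨h0, by rw [halves, h0, Nat.zero_sub, Nat.zero_div]⟩
  have key : ∑ i ∈ Finset.range (2 * n), ((i + 1) * (L.map fun k => (k.part (i + 1)).natDegree).sum) +
      ∑ r ∈ Finset.range n, 2 * (r + 1) * (numOnes L true (2 * (r + 1)) + numOnes L false (2 * (r + 1))) = 2 * n := by
    conv_rhs => rw [← hsz]
    clear hn hodd hsz
    induction L using Multiset.induction with
    | empty => simp [numOnes]
    | cons k L ih =>
      simp only [numOnes, Multiset.map_cons, Multiset.sum_cons, mul_add, Finset.sum_add_distrib] at ih ⊢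
      have h1 := ih (fun x hx => hL x (Multiset.mem_cons_of_mem hx)) fun x hx => hsize x (Multiset.mem_cons_of_mem hx)
      have h2' := part_size h2 (hL k (Multiset.mem_cons_self k L)) (hsize k (Multiset.mem_cons_self k L))
      simp only [mul_add, Finset.sum_add_distrib] at h2'
      omega
  have hdeg : ∀ e, 2 * ((poly L e).natDegree / 2) =
      (L.map fun k => (k.part e).natDegree).sum + 2 * (halves L true e + halves L false e) := fun e => by
    obtain ⟨-, -, h, he⟩ := poly_props h2 hL e
    rw [Nat.two_mul_div_two_of_even he, h]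
  have hhalf : ∑ i ∈ Finset.range (2 * n), (i + 1) * (2 * (halves L true (i + 1) + halves L false (i + 1))) =
      ∑ r ∈ Finset.range n, 2 * (r + 1) * (2 * (halves L true (2 * (r + 1)) + halves L false (2 * (r + 1)))) := by
    refine (Finset.sum_bij_ne_zero (fun r _ _ => 2 * r + 1) ?_ ?_ ?_ ?_).symm
    · intro r hr _; simp only [Finset.mem_range] at hr ⊢; omega
    · intro r _ _ r' _ _ h; omega
    · intro i hi hne
      rcases Nat.even_or_odd (i + 1) with ⟨r, hr⟩ | ho
      · refine ⟨r - 1, Finset.mem_range.2 (by simp only [Finset.mem_range] at hi; omega), ?_, by omega⟩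
        rw [show 2 * (r - 1 + 1) = i + 1 by omega]
        simpa using hne
      · exfalso
        apply hne
        have hno : ∀ b, halves L b (i + 1) = 0 := fun b =>
          (hodd b _ fun h => Nat.not_even_iff_odd.2 ho h.2.1).2
        simp [hno]
    · intro r _ _; rfl
  refine ⟨?_, fun e he => ?_⟩
  · have hsum : ∑ i : Fin (2 * n), ((i : ℕ) + 1) * ((poly L ((i : ℕ) + 1)).natDegree / 2) + ∑ r : Fin n, ((r : ℕ) + 1) *
        (((bits L true (2 * ((r : ℕ) + 1)) false).toNat + (bits L true (2 * ((r : ℕ) + 1)) true).toNat) +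
          ((bits L false (2 * ((r : ℕ) + 1)) false).toNat + (bits L false (2 * ((r : ℕ) + 1)) true).toNat)) = n := by
      rw [Fin.sum_univ_eq_sum_range (fun i => (i + 1) * ((poly L (i + 1)).natDegree / 2)),
        Fin.sum_univ_eq_sum_range (fun r => (r + 1) *
          (((bits L true (2 * (r + 1)) false).toNat + (bits L true (2 * (r + 1)) true).toNat) +
            ((bits L false (2 * (r + 1)) false).toNat + (bits L false (2 * (r + 1)) true).toNat)))]
      refine Nat.eq_of_mul_eq_mul_left two_pos ?_
      rw [mul_add, Finset.mul_sum, Finset.mul_sum]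
      refine Eq.trans ?_ key
      have e1 : ∀ i, 2 * ((i + 1) * ((poly L (i + 1)).natDegree / 2)) =
          (i + 1) * (L.map fun k => (k.part (i + 1)).natDegree).sum +
            (i + 1) * (2 * (halves L true (i + 1) + halves L false (i + 1))) := fun i => by
        rw [← mul_add, ← hdeg]; ring
      have e2 : ∀ r, 2 * (r + 1) * (numOnes L true (2 * (r + 1)) + numOnes L false (2 * (r + 1))) =
          2 * ((r + 1) * (((bits L true (2 * (r + 1)) false).toNat + (bits L true (2 * (r + 1)) true).toNat) +
            ((bits L false (2 * (r + 1)) false).toNat + (bits L false (2 * (r + 1)) true).toNat))) +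
          2 * (r + 1) * (2 * (halves L true (2 * (r + 1)) + halves L false (2 * (r + 1)))) := fun r => by
        rw [(bits_spec L true _ (hn _ _)).1, (bits_spec L false _ (hn _ _)).1]; ring
      rw [Finset.sum_congr rfl fun i _ => e1 i, Finset.sum_congr rfl fun r _ => e2 r, Finset.sum_add_distrib,
        Finset.sum_add_distrib, hhalf]
      ring
    rw [patterns, Finset.mem_filter, Finset.mem_product, Fintype.mem_piFinset]
    refine ⟨⟨fun i => Finset.mem_range.2 (Nat.lt_succ_of_le ?_), Finset.mem_univ _⟩, hsum⟩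
    refine le_trans (Nat.le_mul_of_pos_left _ (Nat.succ_pos (i : ℕ))) ?_
    refine le_trans (Finset.single_le_sum (f := fun i : Fin (2 * n) => ((i : ℕ) + 1) * ((poly L ((i : ℕ) + 1)).natDegree / 2))
      (fun _ _ => Nat.zero_le _) (Finset.mem_univ i)) ((Nat.le_add_right _ _).trans_eq hsum)
  · have hz : ∀ b, numOnes L b e = 0 ∧ halves L b e = 0 := fun b => hodd b e fun h => by omega
    refine ⟨?_, fun b c => ?_⟩
    · obtain ⟨hm, -, -, -⟩ := poly_props h2 hL e
      rw [poly, (hz true).2, (hz false).2, mul_zero, pow_zero, pow_zero, mul_one, mul_one]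
      refine Multiset.prod_eq_one fun x hx => ?_
      obtain ⟨k, hk, rfl⟩ := Multiset.mem_map.1 hx
      have hs := hsize k hk
      rcases k with ⟨Q, e'⟩ | ⟨b', e', s⟩ | ⟨b', e'⟩ <;> simp only [Key.part]
      · have := (show GoodQ Q from (hL _ hk).1).props h2
        rw [if_neg]
        rintro rfl
        simp only [Key.size] at hs
        nlinarith [this.2.2.2.2]
      · rw [if_neg]
        rintro rfl
        simp only [Key.size] at hs
        omega
    · have h0 : numNsq L b e = 0 := Nat.le_zero.1 (((sum_map_le _ _ _ fun k _ => by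
        rcases k with ⟨Q, e'⟩ | ⟨b', e', s⟩ | ⟨b', e'⟩ <;> simp only [Key.nsq, Key.ones, le_refl]
        split_ifs <;> simp_all)).trans_eq (hz b).1)
      simp [bits, (hz b).1, h0]

/-- The number of normal multisets of labels of total size `2 n`. -/
theorem card_labels_le [Fintype F] (h2 : (2 : F) ≠ 0) (n : ℕ) {ι : Type*} (L : ι → Multiset (Key F))
    (hinj : Function.Injective L) (hL : ∀ i, ∀ k ∈ L i, k.Valid) (hn : ∀ i b e, numNsq (L i) b e ≤ 1)
    (hsz : ∀ i, ((L i).map Key.size).sum = 2 * n) :
    Finite ι ∧ Nat.card ι ≤ ∑ p ∈ patterns n, Fintype.card F ^ ∑ i, p.1 i := by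
  classical
  haveI := fun j => (card_pal_le (F := F) j).1
  let Φ : ι → Σ p : patterns n, (i : Fin (2 * n)) → Pal F (p.1.1 i) := fun t =>
    ⟨⟨_, (data_mem h2 (hL t) (hn t) (hsz t)).1⟩, fun i => ⟨poly (L t) ((i : ℕ) + 1),
      (poly_props h2 (hL t) _).1, (Nat.two_mul_div_two_of_even (poly_props h2 (hL t) _).2.2.2).symm,
      (poly_props h2 (hL t) _).2.1⟩⟩
  have hΦ : Function.Injective Φ := by
    intro t t' h
    refine hinj (eq_of_data h2 (hL t) (hL t') (hn t) (hn t') (fun e he => ?_) fun b r c => ?_)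
    · by_cases hle : e ≤ 2 * n
      · have := congrArg (fun x : Σ p : patterns n, (i : Fin (2 * n)) → Pal F (p.1.1 i) =>
          (x.2 ⟨e - 1, by omega⟩).1) h
        simpa [Φ, Nat.sub_add_cancel he] using this
      · rw [((data_mem h2 (hL t) (hn t) (hsz t)).2 e (by omega)).1,
          ((data_mem h2 (hL t') (hn t') (hsz t')).2 e (by omega)).1]
    · by_cases hr : r < n
      · exact congrArg (fun x : Σ p : patterns n, (i : Fin (2 * n)) → Pal F (p.1.1 i) => x.1.1.2 ⟨r, hr⟩ b c) h
      · rw [((data_mem h2 (hL t) (hn t) (hsz t)).2 _ (by omega)).2 b c,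
          ((data_mem h2 (hL t') (hn t') (hsz t')).2 _ (by omega)).2 b c]
  refine ⟨Finite.of_injective Φ hΦ, (Nat.card_le_card_of_injective Φ hΦ).trans ?_⟩
  rw [Nat.card_sigma, ← Finset.sum_coe_sort (patterns n)]
  refine Finset.sum_le_sum fun p _ => ?_
  rw [Nat.card_pi, ← Finset.prod_pow_eq_pow_sum]
  exact Finset.prod_le_prod' fun i _ => (card_pal_le _).2

/-- The constant bounding the class number. -/
def spCoef (y : ℚ) (K : ℕ) : ℚ := ∏ i ∈ Finset.range K, (1 + y ^ (i + 1)) ^ 4 / (1 - y ^ (i + 1))

theorem sum_patterns_le (q n : ℕ) (hq : 2 ≤ q) :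
    ((∑ p ∈ patterns n, q ^ ∑ i, p.1 i : ℕ) : ℚ) ≤ spCoef (1 / q) (2 * n) * (q : ℚ) ^ n := by
  classical
  have hq0 : (0 : ℚ) < q := by exact_mod_cast (by omega : 0 < q)
  set y : ℚ := 1 / (q : ℚ) with hy
  have hy0 : 0 < y := by positivity
  have hy1 : y < 1 := by rw [hy, div_lt_one hq0]; exact_mod_cast (by omega : 1 < q)
  have hpow : ∀ m, y ^ (m + 1) < 1 := fun m => pow_lt_one₀ hy0.le hy1 (by omega)
  let w : (Fin n → Bool → Bool → Bool) → ℕ := fun b => ∑ r : Fin n, ((r : ℕ) + 1) *
    (((b r true false).toNat + (b r true true).toNat) + ((b r false false).toNat + (b r false true).toNat))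
  have hterm : ∀ p ∈ patterns n, ((q ^ ∑ i, p.1 i : ℕ) : ℚ) =
      (q : ℚ) ^ n * ((∏ i : Fin (2 * n), y ^ ((i : ℕ) * p.1 i)) * y ^ w p.2) := by
    intro p hp
    rw [patterns, Finset.mem_filter] at hp
    rw [Finset.prod_pow_eq_pow_sum, ← pow_add, hy, one_div, inv_pow, Nat.cast_pow]
    rw [eq_mul_inv_iff_mul_eq₀ (pow_ne_zero _ hq0.ne'), ← pow_add]
    congr 1
    refine Eq.trans ?_ hp.2
    rw [← add_assoc, ← Finset.sum_add_distrib]
    congr 1
    exact Finset.sum_congr rfl fun i _ => by ring
  push_cast at hterm ⊢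
  rw [Finset.sum_congr rfl hterm, ← Finset.mul_sum, mul_comm]
  refine mul_le_mul_of_nonneg_right ?_ (by positivity)
  let T : Fin (2 * n) → Finset ℕ := fun i => if (i : ℕ) = 0 then {0} else Finset.range (n + 1)
  let g : (Fin (2 * n) → ℕ) × (Fin n → Bool → Bool → Bool) → (Fin (2 * n) → ℕ) × (Fin n → Bool → Bool → Bool) :=
    fun p => (fun i => if (i : ℕ) = 0 then 0 else p.1 i, p.2)
  have hval : ∀ p : (Fin (2 * n) → ℕ) × (Fin n → Bool → Bool → Bool),
      (∏ i : Fin (2 * n), y ^ ((i : ℕ) * p.1 i)) * y ^ w p.2 =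
        (∏ i : Fin (2 * n), y ^ ((i : ℕ) * (g p).1 i)) * y ^ w (g p).2 := fun p => by
    refine congrArg₂ (· * ·) (Finset.prod_congr rfl fun i _ => ?_) rfl
    simp only [g]
    split_ifs with h <;> simp [h]
  rw [Finset.sum_congr rfl fun p _ => hval p,
    ← Finset.sum_image (f := fun p => (∏ i : Fin (2 * n), y ^ ((i : ℕ) * p.1 i)) * y ^ w p.2) (g := g) ?_]
  swap
  · intro p hp p' hp' h
    simp only [Finset.mem_coe, patterns, Finset.mem_filter] at hp hp'
    simp only [g, Prod.mk.injEq] at h
    obtain ⟨h1, h2⟩ := h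
    refine Prod.ext (funext fun i => ?_) h2
    by_cases hi : (i : ℕ) = 0
    · have e := hp.2.trans hp'.2.symm
      rw [h2, ← Finset.add_sum_erase _ _ (Finset.mem_univ i), ← Finset.add_sum_erase _ _ (Finset.mem_univ i)] at e
      have : ∑ x ∈ Finset.univ.erase i, ((x : ℕ) + 1) * p.1 x = ∑ x ∈ Finset.univ.erase i, ((x : ℕ) + 1) * p'.1 x :=
        Finset.sum_congr rfl fun x hx => by
          have hx0 : (x : ℕ) ≠ 0 := fun h0 => Finset.ne_of_mem_erase hx (Fin.ext (h0.trans hi.symm))
          have := congrFun h1 x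
          rw [if_neg hx0, if_neg hx0] at this
          rw [this]
      rw [this, hi] at e
      omega
    · have := congrFun h1 i
      rwa [if_neg hi, if_neg hi] at this
  refine le_trans (Finset.sum_le_sum_of_subset_of_nonneg (t := Fintype.piFinset T ×ˢ Finset.univ) ?_
    (fun p _ _ => by positivity)) ?_
  · intro x hx
    obtain ⟨p, hp, rfl⟩ := Finset.mem_image.1 hx
    simp only [patterns, Finset.mem_filter, Finset.mem_product, Fintype.mem_piFinset] at hp
    simp only [g, T, Finset.mem_product, Fintype.mem_piFinset, Finset.mem_univ, and_true]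
    intro i
    split_ifs
    · simp
    · exact hp.1.1 i
  rw [Finset.sum_product]
  simp only
  rw [← Finset.sum_mul_sum, ← Finset.prod_univ_sum T (fun (i : Fin (2 * n)) x => y ^ ((i : ℕ) * x))]
  have hbits : ∑ b : Fin n → Bool → Bool → Bool, y ^ w b = ∏ r : Fin n, (1 + y ^ ((r : ℕ) + 1)) ^ 4 := by
    simp only [w, ← Finset.prod_pow_eq_pow_sum]
    rw [← Fintype.prod_sum (fun (r : Fin n) (c : Bool → Bool → Bool) => y ^ (((r : ℕ) + 1) *
      (((c true false).toNat + (c true true).toNat) + ((c false false).toNat + (c false true).toNat))))]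
    refine Finset.prod_congr rfl fun r _ => ?_
    set z := y ^ ((r : ℕ) + 1) with hz
    simp only [pow_mul, ← hz]
    let e : (Bool → Bool → Bool) ≃ (Bool × Bool) × (Bool × Bool) :=
      { toFun := fun c => ((c true false, c true true), (c false false, c false true))
        invFun := fun p b c => if b then (if c then p.1.2 else p.1.1) else (if c then p.2.2 else p.2.1)
        left_inv := fun c => funext fun b => funext fun d => by cases b <;> cases d <;> rfl
        right_inv := fun p => by obtain ⟨⟨a, b⟩, c, d⟩ := p; rfl }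
    rw [← Equiv.sum_comp e.symm]
    simp [Fintype.sum_prod_type, e]
    ring
  rw [hbits, spCoef, Finset.prod_div_distrib, div_eq_mul_inv, ← Finset.prod_inv_distrib, mul_comm]
  have hfac : ∀ i, 0 ≤ (1 + y ^ i) ^ 4 := fun i => by positivity
  refine mul_le_mul ?_ ?_ ?_ (Finset.prod_nonneg fun i _ => by positivity)
  · rw [Fin.prod_univ_eq_prod_range (fun r => (1 + y ^ (r + 1)) ^ 4) n]
    refine Finset.prod_le_prod_of_subset_of_one_le (Finset.range_subset_range.2 (by omega))
      (fun i _ => hfac _) fun i _ _ => one_le_pow₀ (le_add_of_nonneg_right (by positivity))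
  · refine le_trans ?_ (le_of_eq (Fin.prod_univ_eq_prod_range (fun i => (1 - y ^ (i + 1))⁻¹) (2 * n)))
    rcases Nat.eq_zero_or_pos n with rfl | hn
    · simp
    obtain ⟨m, hm⟩ : ∃ m, 2 * n = m + 1 := ⟨2 * n - 1, by omega⟩
    have step : ∀ i : Fin (2 * n), ∑ x ∈ T i, y ^ ((i : ℕ) * x) ≤
        if (i : ℕ) = 0 then 1 else (1 - y ^ (i : ℕ))⁻¹ := by
      intro i
      simp only [T]
      split_ifs with h
      · simp
      · obtain ⟨j, hj⟩ := Nat.exists_eq_succ_of_ne_zero h
        simp only [pow_mul, hj, Nat.succ_eq_add_one]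
        have hx := hpow j
        rw [← one_div, le_div_iff₀ (by linarith)]
        rw [geom_sum_mul_neg]
        have : 0 ≤ (y ^ (j + 1)) ^ (n + 1) := by positivity
        linarith
    refine le_trans (Finset.prod_le_prod (fun i _ => Finset.sum_nonneg fun x _ => by positivity) fun i _ => step i) ?_
    rw [Fin.prod_univ_eq_prod_range (fun i => if i = 0 then (1 : ℚ) else (1 - y ^ i)⁻¹) (2 * n),
      Fin.prod_univ_eq_prod_range (fun i => (1 - y ^ (i + 1))⁻¹) (2 * n), hm, Finset.prod_range_succ',
      if_pos rfl, mul_one, Finset.prod_range_succ]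
    simp only [Nat.add_one_ne_zero, if_false]
    refine le_mul_of_one_le_right (Finset.prod_nonneg fun i _ => inv_nonneg.2 (by linarith [hpow i])) ?_
    rw [one_le_inv₀ (by linarith [hpow m])]
    have : 0 ≤ y ^ (m + 1) := by positivity
    linarith
  · exact Finset.prod_nonneg fun i _ => Finset.sum_nonneg fun x _ => by positivity

theorem spCoef_le (q : ℕ) (hq : 3 ≤ q) (K : ℕ) : spCoef (1 / q) K ≤ 54 / 5 := by
  have hq0 : (0 : ℚ) < q := by exact_mod_cast (by omega : 0 < q)
  have hy : 1 / (q : ℚ) ≤ 1 / 3 := one_div_le_one_div_of_le (by norm_num) (by exact_mod_cast hq)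
  have hy0 : 0 ≤ 1 / (q : ℚ) := by positivity
  have hlt : ∀ i, (1 / 3 : ℚ) ^ (i + 1) < 1 := fun i => pow_lt_one₀ (by norm_num) (by norm_num) (by omega)
  have hmono : spCoef (1 / q) K ≤ spCoef (1 / 3) K := by
    refine Finset.prod_le_prod (fun i _ => ?_) fun i _ => ?_
    · have : (1 / (q : ℚ)) ^ (i + 1) < 1 := lt_of_le_of_lt (pow_le_pow_left₀ hy0 hy _) (hlt i)
      exact div_nonneg (by positivity) (by linarith)
    · have h1 := pow_le_pow_left₀ hy0 hy (i + 1)
      have := hlt i
      exact div_le_div₀ (by positivity) (pow_le_pow_left₀ (by positivity) (by linarith) 4) (by linarith) (by linarith)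
  refine hmono.trans ?_
  have inv : ∀ K, 7 ≤ K → spCoef (1 / 3) K ≤ 54 / 5 * (1 - 5 * (1 / 3 : ℚ) ^ K) := by
    intro K hK
    induction K, hK using Nat.le_induction with
    | base => norm_num [spCoef, Finset.prod_range_succ]
    | succ K hK ih =>
      rw [spCoef, Finset.prod_range_succ, ← spCoef, pow_succ (1 / 3 : ℚ)]
      set z := (1 / 3 : ℚ) ^ K with hz
      have hz0 : 0 < z := by positivity
      have hz1 : z ≤ 1 / 2187 := le_trans (pow_le_pow_of_le_one (by norm_num) (by norm_num) hK) (by norm_num)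
      calc spCoef (1 / 3) K * ((1 + z * (1 / 3)) ^ 4 / (1 - z * (1 / 3)))
          ≤ 54 / 5 * (1 - 5 * z) * ((1 + z * (1 / 3)) ^ 4 / (1 - z * (1 / 3))) :=
            mul_le_mul_of_nonneg_right ih (div_nonneg (by positivity) (by linarith))
        _ ≤ _ := by
            rw [mul_assoc]
            refine mul_le_mul_of_nonneg_left ?_ (by norm_num)
            rw [mul_div_assoc', div_le_iff₀ (by linarith)]
            have hsq : z ^ 2 ≤ z / 2187 := by nlinarith
            have hcu : z ^ 3 ≤ z ^ 2 := by nlinarith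
            have hqu : z ^ 4 ≤ z ^ 2 := by nlinarith
            have h4 : (1 + z * (1 / 3)) ^ 4 ≤ 1 + 4 / 3 * z + z ^ 2 := by nlinarith
            calc (1 - 5 * z) * (1 + z * (1 / 3)) ^ 4 ≤ (1 - 5 * z) * (1 + 4 / 3 * z + z ^ 2) :=
                  mul_le_mul_of_nonneg_left h4 (by linarith)
              _ ≤ _ := by nlinarith
  rcases le_or_gt 7 K with h | h
  · refine (inv K h).trans ?_
    have : (0 : ℚ) ≤ (1 / 3) ^ K := by positivity
    linarith
  · interval_cases K <;> norm_num [spCoef, Finset.prod_range_succ]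

end Cfsg.Lib.ClassNumberSp
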