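import Cfsg.Agent.Known.ClassNumberSU.Duality
import Cfsg.Agent.Known.NormEngine
import Mathlib

/-! Cyclic blocks of an isometry of an alternating form over a finite field of odd characteristic. -/

set_option autoImplicit false
set_option linter.style.haveILetI false

open Polynomial

namespace Cfsg.Lib.ClassNumberSp

universe u v

variable {F : Type u} [Field F] {V : Type v} [AddCommGroup V] [Module F V]

/-- An isometry whose `N`-th power is trivial. -/
structure Isom (B : LinearMap.BilinForm F V) (N : ℕ) (a : Module.End F V) : Prop where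
  isom : ∀ u w, B (a u) (a w) = B u w
  pow : a ^ N = 1
  pos : 1 ≤ N

/-- The substitution `X ↦ X ^ (N - 1)`. -/
noncomputable def star (N : ℕ) (h : F[X]) : F[X] := h.comp (X ^ (N - 1))

theorem aeval_star {S : Type*} [Semiring S] [Algebra F S] (N : ℕ) (x : S) (h : F[X]) :
    aeval x (star N h) = aeval (x ^ (N - 1)) h := by
  rw [star, aeval_comp, map_pow, aeval_X]

variable {B : LinearMap.BilinForm F V} {N : ℕ} {a : Module.End F V}

theorem Isom.adjoint (ha : Isom B N a) (h : F[X]) (u w : V) :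
    B (aeval a h u) w = B u (aeval a (star N h) w) := by
  rw [aeval_star]
  induction h using Polynomial.induction_on' with
  | add s t hs ht => simp only [map_add, LinearMap.add_apply, hs, ht]
  | monomial k c =>
    simp only [aeval_monomial, Module.End.mul_apply, Module.algebraMap_end_apply, map_smul, LinearMap.smul_apply]
    congr 1
    induction k generalizing u with
    | zero => simp
    | succ k ih =>
      rw [pow_succ, Module.End.mul_apply, ih, pow_succ' (a ^ (N - 1)), Module.End.mul_apply]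
      have e : a (((a ^ (N - 1)) : Module.End F V) (((a ^ (N - 1)) ^ k : Module.End F V) w)) = ((a ^ (N - 1)) ^ k : Module.End F V) w := by
        rw [← Module.End.mul_apply a, ← pow_succ', Nat.sub_add_cancel ha.pos, ha.pow, Module.End.one_apply]
      conv_lhs => rw [← e, ha.isom]

theorem alt_neg (hB : B.IsAlt) (u w : V) : B u w = - B w u := by
  exact (LinearMap.IsAlt.neg hB w u).symm

/-- The smallest invariant subspace containing a vector. -/
noncomputable def gen (a : Module.End F V) (v : V) : Submodule F V :=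
  LinearMap.range ((LinearMap.applyₗ v).comp (aeval a).toLinearMap)

theorem mem_gen {v x : V} : x ∈ gen a v ↔ ∃ f : F[X], aeval a f v = x := Iff.rfl

theorem aeval_mul_apply (f g : F[X]) (v : V) : aeval a (f * g) v = aeval a f (aeval a g v) := by
  rw [map_mul, Module.End.mul_apply]

theorem self_mem_gen (a : Module.End F V) (v : V) : v ∈ gen a v := ⟨1, by simp⟩

theorem gen_invariant {v x : V} (f : F[X]) (hx : x ∈ gen a v) : aeval a f x ∈ gen a v := by
  obtain ⟨g, rfl⟩ := mem_gen.1 hx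
  exact mem_gen.2 ⟨f * g, aeval_mul_apply f g v⟩

/-- Evaluation on the quotient by a monic polynomial. -/
noncomputable def psi (a : Module.End F V) {g : F[X]} (hg : g.Monic) (v : V) : AdjoinRoot g →ₗ[F] V :=
  ((LinearMap.applyₗ v).comp (aeval a).toLinearMap).comp (AdjoinRoot.modByMonicHom hg)

theorem psi_mk {g : F[X]} (hg : g.Monic) {v : V} (hv : aeval a g v = 0) (f : F[X]) :
    psi a hg v (AdjoinRoot.mk g f) = aeval a f v := by
  show aeval a (AdjoinRoot.modByMonicHom hg (AdjoinRoot.mk g f)) v = _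
  rw [AdjoinRoot.modByMonicHom_mk, Polynomial.modByMonic_eq_sub_mul_div, map_sub, LinearMap.sub_apply, mul_comm,
    aeval_mul_apply, hv, map_zero, sub_zero]

theorem range_psi {g : F[X]} (hg : g.Monic) {v : V} (hv : aeval a g v = 0) :
    LinearMap.range (psi a hg v) = gen a v := by
  ext x
  constructor
  · rintro ⟨r, rfl⟩
    obtain ⟨f, rfl⟩ := AdjoinRoot.mk_surjective r
    exact mem_gen.2 ⟨f, (psi_mk hg hv f).symm⟩
  · intro hx
    obtain ⟨f, rfl⟩ := mem_gen.1 hx
    exact ⟨AdjoinRoot.mk g f, psi_mk hg hv f⟩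

/-- A nondegenerate cyclic block with annihilator `g`. -/
structure Cyc (B : LinearMap.BilinForm F V) (a : Module.End F V) (g : F[X]) (v : V) : Prop where
  monic : g.Monic
  rev : g.reverse = g
  kills : aeval a g v = 0
  nondeg : ∀ f, (∀ h, B (aeval a (h * f) v) v = 0) → g ∣ f

variable {g : F[X]} {v : V}

theorem Cyc.dvd_of_kills (hc : Cyc B a g v) {f : F[X]} (h : aeval a f v = 0) : g ∣ f :=
  hc.nondeg f fun k => by rw [aeval_mul_apply, h, map_zero, map_zero, LinearMap.zero_apply]

theorem Cyc.dvd_X_pow (hc : Cyc B a g v) (ha : Isom B N a) : g ∣ X ^ N - 1 :=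
  hc.dvd_of_kills (by simp [ha.pow])

theorem Cyc.psi_injective (hc : Cyc B a g v) : Function.Injective (psi a hc.monic v) := by
  refine (injective_iff_map_eq_zero _).2 fun r hr => ?_
  obtain ⟨f, rfl⟩ := AdjoinRoot.mk_surjective r
  rw [psi_mk _ hc.kills] at hr
  exact AdjoinRoot.mk_eq_zero.2 (hc.dvd_of_kills hr)

theorem Cyc.finrank_gen (hc : Cyc B a g v) : Module.finrank F (gen a v) = g.natDegree := by
  rw [← range_psi hc.monic hc.kills, LinearMap.finrank_range_of_inj hc.psi_injective]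
  exact (PowerBasis.finrank (AdjoinRoot.powerBasis' hc.monic)).trans rfl

theorem Cyc.gen_nondeg (hc : Cyc B a g v) (ha : Isom B N a) {x : V} (hx : x ∈ gen a v)
    (h : ∀ y ∈ gen a v, B x y = 0) : x = 0 := by
  obtain ⟨f, rfl⟩ := mem_gen.1 hx
  obtain ⟨c, rfl⟩ : g ∣ f := hc.nondeg f fun k => by
    rw [aeval_mul_apply, ha.adjoint]
    exact h _ (mem_gen.2 ⟨star N k, rfl⟩)
  rw [mul_comm, aeval_mul_apply, hc.kills, map_zero]

section Tau

theorem root_pow (hg : g ∣ X ^ N - 1) : (AdjoinRoot.root g) ^ N = 1 := by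
  have h := AdjoinRoot.mk_eq_zero.2 hg
  rwa [map_sub, map_pow, map_one, AdjoinRoot.mk_X, sub_eq_zero] at h

theorem aeval_root_inv (hN : 1 ≤ N) (hg : g ∣ X ^ N - 1) (hrev : g.reverse = g) :
    aeval (AdjoinRoot.root g ^ (N - 1)) g = 0 := by
  have h1 := ClassNumberSU.aeval_reverse (K := F) (AdjoinRoot.root g) (AdjoinRoot.root g ^ (N - 1))
    (by rw [← pow_succ, Nat.sub_add_cancel hN, root_pow hg]) (Commute.all _ _) g
  rw [hrev, AdjoinRoot.aeval_eq g, AdjoinRoot.mk_self] at h1
  refine ((IsUnit.pow _ ?_).mul_left_eq_zero).1 h1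
  exact IsUnit.of_mul_eq_one (AdjoinRoot.root g ^ (N - 1)) (by rw [← pow_succ', Nat.sub_add_cancel hN, root_pow hg])

/-- The involution of the quotient inverting the root. -/
noncomputable def tau (hN : 1 ≤ N) (hg : g ∣ X ^ N - 1) (hrev : g.reverse = g) : AdjoinRoot g →+* AdjoinRoot g :=
  AdjoinRoot.lift (AdjoinRoot.of g) (AdjoinRoot.root g ^ (N - 1)) (aeval_root_inv hN hg hrev)

variable {hN : 1 ≤ N} {hg : g ∣ X ^ N - 1} {hrev : g.reverse = g}

theorem tau_mk (f : F[X]) : tau hN hg hrev (AdjoinRoot.mk g f) = AdjoinRoot.mk g (star N f) := by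
  rw [← AdjoinRoot.aeval_eq (star N f), aeval_star]
  exact AdjoinRoot.lift_mk (aeval_root_inv hN hg hrev) f

theorem tau_of (c : F) : tau hN hg hrev (AdjoinRoot.of g c) = AdjoinRoot.of g c :=
  AdjoinRoot.lift_of _

theorem tau_root : tau hN hg hrev (AdjoinRoot.root g) = AdjoinRoot.root g ^ (N - 1) :=
  AdjoinRoot.lift_root _

theorem tau_tau (r : AdjoinRoot g) : tau hN hg hrev (tau hN hg hrev r) = r := by
  have key : (tau hN hg hrev).comp (tau hN hg hrev) = RingHom.id _ := by
    refine Ideal.Quotient.ringHom_ext (Polynomial.ringHom_ext (fun y => ?_) ?_)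
    · show tau hN hg hrev (tau hN hg hrev (AdjoinRoot.of g y)) = AdjoinRoot.of g y
      rw [tau_of, tau_of]
    · show tau hN hg hrev (tau hN hg hrev (AdjoinRoot.root g)) = AdjoinRoot.root g
      have e1 : AdjoinRoot.root g * tau hN hg hrev (AdjoinRoot.root g) = 1 := by
        rw [tau_root, ← pow_succ', Nat.sub_add_cancel hN, root_pow hg]
      have e2 : tau hN hg hrev (AdjoinRoot.root g) * tau hN hg hrev (tau hN hg hrev (AdjoinRoot.root g)) = 1 := by
        rw [← map_mul, e1, map_one]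
      exact (left_inv_eq_right_inv e1 e2).symm
  exact RingHom.congr_fun key r

end Tau

variable {a' : Module.End F V} {v' : V}

/-- An isometry intertwining two maps on given subspaces. -/
def IsoOn (B : LinearMap.BilinForm F V) (a a' : Module.End F V) (W W' : Submodule F V) : Prop :=
  ∃ f : W →ₗ[F] V, LinearMap.range f = W' ∧ (∀ x y : W, B (f x) (f y) = B x y) ∧
    ∀ (x : W) (hx : a x ∈ W), f ⟨a x, hx⟩ = a' (f x)

/-- Two cyclic blocks with the same functional are isometric. -/
theorem iso_of_eq (ha : Isom B N a) (ha' : Isom B N a') (hc : Cyc B a g v) (hc' : Cyc B a' g v') (hB : B.IsAlt)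
    (h : ∀ f : F[X], B (aeval a' f v') v' = B (aeval a f v) v) : IsoOn B a a' (gen a v) (gen a' v') := by
  let E : AdjoinRoot g ≃ₗ[F] gen a v :=
    (LinearEquiv.ofInjective _ hc.psi_injective).trans (LinearEquiv.ofEq _ _ (range_psi hc.monic hc.kills))
  have hE : ∀ r, ((E r : gen a v) : V) = psi a hc.monic v r := fun r => rfl
  have hpair : ∀ (b : Module.End F V) (hb : Isom B N b) (w : V) (f k : F[X]),
      B (aeval b f w) (aeval b k w) = B (aeval b (star N k * f) w) w := by
    intro b hb w f k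
    rw [alt_neg hB, hb.adjoint, alt_neg hB, neg_neg, aeval_mul_apply]
  refine ⟨(psi a' hc'.monic v').comp (E.symm : gen a v →ₗ[F] AdjoinRoot g), ?_, ?_, ?_⟩
  · rw [LinearMap.range_comp, LinearEquiv.range, Submodule.map_top, range_psi _ hc'.kills]
  · intro x y
    obtain ⟨r, rfl⟩ := E.surjective x
    obtain ⟨s, rfl⟩ := E.surjective y
    obtain ⟨f, rfl⟩ := AdjoinRoot.mk_surjective r
    obtain ⟨k, rfl⟩ := AdjoinRoot.mk_surjective s
    simp only [LinearMap.comp_apply, LinearEquiv.coe_coe, LinearEquiv.symm_apply_apply]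
    rw [hE, hE, psi_mk _ hc.kills, psi_mk _ hc.kills, psi_mk _ hc'.kills, psi_mk _ hc'.kills, hpair a ha,
      hpair a' ha', h]
  · intro x hx
    obtain ⟨r, rfl⟩ := E.surjective x
    obtain ⟨f, rfl⟩ := AdjoinRoot.mk_surjective r
    have e : (⟨a (E (AdjoinRoot.mk g f) : gen a v), hx⟩ : gen a v) = E (AdjoinRoot.mk g (X * f)) := by
      apply Subtype.ext
      show a (E (AdjoinRoot.mk g f) : gen a v) = _
      rw [hE, hE, psi_mk _ hc.kills, psi_mk _ hc.kills, aeval_mul_apply, aeval_X]
    rw [e]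
    simp only [LinearMap.comp_apply, LinearEquiv.coe_coe, LinearEquiv.symm_apply_apply]
    rw [psi_mk _ hc'.kills, psi_mk _ hc'.kills, aeval_mul_apply, aeval_X]

variable [Finite F]

/-- The ratio of the functionals of two blocks. -/
theorem exists_ratio_elem (ha : Isom B N a) (ha' : Isom B N a') (hc : Cyc B a g v) (hc' : Cyc B a' g v')
    (hB : B.IsAlt) : ∃ x : AdjoinRoot g, IsUnit x ∧ tau ha.pos (hc.dvd_X_pow ha) hc.rev x = x ∧
      ∀ r, B (psi a' hc'.monic v' r) v' = B (psi a hc.monic v (x * r)) v := by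
  classical
  haveI : Module.Finite F (AdjoinRoot g) := hc.monic.finite_adjoinRoot
  haveI : Finite (AdjoinRoot g) := Module.finite_of_finite F
  let φ : AdjoinRoot g →ₗ[F] F := (B.flip v).comp (psi a hc.monic v)
  let φ' : AdjoinRoot g →ₗ[F] F := (B.flip v').comp (psi a' hc'.monic v')
  have hφ : ∀ f, φ (AdjoinRoot.mk g f) = B (aeval a f v) v := fun f => by
    show B (psi a hc.monic v _) v = _
    rw [psi_mk _ hc.kills]
  have hφ' : ∀ f, φ' (AdjoinRoot.mk g f) = B (aeval a' f v') v' := fun f => by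
    show B (psi a' hc'.monic v' _) v' = _
    rw [psi_mk _ hc'.kills]
  have hnd : ∀ y, (∀ r, φ (y * r) = 0) → y = 0 := by
    intro y hy
    obtain ⟨f, rfl⟩ := AdjoinRoot.mk_surjective y
    refine AdjoinRoot.mk_eq_zero.2 (hc.nondeg f fun k => ?_)
    have := hy (AdjoinRoot.mk g k)
    rwa [← map_mul, mul_comm, hφ] at this
  have hnd' : ∀ y, (∀ r, φ' (y * r) = 0) → y = 0 := by
    intro y hy
    obtain ⟨f, rfl⟩ := AdjoinRoot.mk_surjective y
    refine AdjoinRoot.mk_eq_zero.2 (hc'.nondeg f fun k => ?_)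
    have := hy (AdjoinRoot.mk g k)
    rwa [← map_mul, mul_comm, hφ'] at this
  let M : AdjoinRoot g →ₗ[F] Module.Dual F (AdjoinRoot g) :=
    { toFun := fun x => φ.comp (LinearMap.mulLeft F x)
      map_add' := fun x y => LinearMap.ext fun r => by simp [add_mul]
      map_smul' := fun c x => LinearMap.ext fun r => by simp }
  have hM : Function.Injective M := (injective_iff_map_eq_zero M).2 fun y hy =>
    hnd y fun r => LinearMap.congr_fun hy r
  have hMs : Function.Surjective M :=
    (LinearMap.injective_iff_surjective_of_finrank_eq_finrank (Subspace.dual_finrank_eq).symm).1 hM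
  obtain ⟨x, hx⟩ := hMs φ'
  have hxr : ∀ r, φ' r = φ (x * r) := fun r => (LinearMap.congr_fun hx r).symm
  have hinj : Function.Injective fun y : AdjoinRoot g => x * y := by
    intro y z hyz
    rw [← sub_eq_zero]
    refine hnd' _ fun r => ?_
    rw [hxr, ← mul_assoc, mul_sub, show x * y = x * z from hyz, sub_self, zero_mul, map_zero]
  obtain ⟨y, hy⟩ := Finite.surjective_of_injective hinj 1
  refine ⟨x, IsUnit.of_mul_eq_one y hy, ?_, hxr⟩
  set τ := tau ha.pos (hc.dvd_X_pow ha) hc.rev with hτ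
  have hanti : ∀ r, φ (τ r) = - φ r := by
    intro r
    obtain ⟨f, rfl⟩ := AdjoinRoot.mk_surjective r
    rw [hτ, tau_mk, hφ, hφ, alt_neg hB, ← ha.adjoint]
  have hanti' : ∀ r, φ' (τ r) = - φ' r := by
    intro r
    obtain ⟨f, rfl⟩ := AdjoinRoot.mk_surjective r
    rw [hτ, tau_mk, hφ', hφ', alt_neg hB, ← ha'.adjoint]
  have hττ : ∀ r, τ (τ r) = r := tau_tau
  refine sub_eq_zero.1 (hnd _ fun r => ?_)
  rw [sub_mul, map_sub, ← hxr]
  have h1 := hanti (x * τ r)
  rw [map_mul, hττ, ← hxr, hanti', neg_neg] at h1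
  rw [h1, sub_self]

/-- Twisting the generator by an element whose norm is the ratio. -/
theorem iso_of_norm (ha : Isom B N a) (ha' : Isom B N a') (hc : Cyc B a g v) (hc' : Cyc B a' g v')
    (hB : B.IsAlt) (x w : AdjoinRoot g) (hxu : IsUnit x)
    (hx : ∀ r, B (psi a' hc'.monic v' r) v' = B (psi a hc.monic v (x * r)) v)
    (hw : w * tau ha.pos (hc.dvd_X_pow ha) hc.rev w = x) : IsoOn B a a' (gen a v) (gen a' v') := by
  obtain ⟨wp, rfl⟩ := AdjoinRoot.mk_surjective w
  rw [tau_mk, ← map_mul] at hw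
  set v1 := aeval (R := F) a wp v with hv1
  have hφ1 : ∀ f : F[X], B (aeval a f v1) v1 = B (aeval a' f v') v' := by
    intro f
    have h := hx (AdjoinRoot.mk g f)
    rw [psi_mk _ hc'.kills, ← hw, ← map_mul, psi_mk _ hc.kills] at h
    rw [h, hv1, alt_neg hB, ha.adjoint, alt_neg hB, neg_neg, ← aeval_mul_apply, ← aeval_mul_apply]
    congr 3
    ring
  have hc1 : Cyc B a g v1 := by
    refine ⟨hc.monic, hc.rev, ?_, fun f hf => hc'.nondeg f fun h => by rw [← hφ1]; exact hf h⟩
    rw [hv1, ← aeval_mul_apply, mul_comm, aeval_mul_apply, hc.kills, map_zero]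
  have hgen : gen a v1 = gen a v := by
    refine le_antisymm ?_ ?_
    · intro y hy
      obtain ⟨f, rfl⟩ := mem_gen.1 hy
      exact gen_invariant f (gen_invariant wp (self_mem_gen a v))
    · intro y hy
      obtain ⟨f, rfl⟩ := mem_gen.1 hy
      obtain ⟨u, hu⟩ := hxu.exists_right_inv
      obtain ⟨up, rfl⟩ := AdjoinRoot.mk_surjective u
      rw [← hw, ← map_mul, ← map_one (AdjoinRoot.mk g)] at hu
      refine mem_gen.2 ⟨f * (star N wp * up), ?_⟩
      rw [hv1, ← aeval_mul_apply, ← psi_mk hc.monic hc.kills, ← psi_mk hc.monic hc.kills]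
      congr 1
      rw [show f * (star N wp * up) * wp = f * (wp * star N wp * up) by ring, map_mul, hu, map_one, mul_one]
  rw [← hgen]
  exact iso_of_eq ha ha' hc1 hc' hB fun f => (hφ1 f).symm

/-- Blocks without eigenvalues `1`, `-1` are determined by the annihilator. -/
theorem iso_of_coprime (ha : Isom B N a) (ha' : Isom B N a') (hc : Cyc B a g v) (hc' : Cyc B a' g v')
    (hB : B.IsAlt) (hcop : IsCoprime g (X ^ 2 - 1)) : IsoOn B a a' (gen a v) (gen a' v') := by
  obtain ⟨x, hxu, hxτ, hx⟩ := exists_ratio_elem ha ha' hc hc' hB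
  haveI : Module.Finite F (AdjoinRoot g) := hc.monic.finite_adjoinRoot
  haveI : Finite (AdjoinRoot g) := Module.finite_of_finite F
  set τ := tau ha.pos (hc.dvd_X_pow ha) hc.rev with hτ
  obtain ⟨s, t, hst⟩ := hcop
  have h1 : IsUnit (AdjoinRoot.root g ^ 2 - 1) := by
    refine IsUnit.of_mul_eq_one (AdjoinRoot.mk g t) ?_
    have := congrArg (AdjoinRoot.mk g) hst
    rw [map_add, map_mul, map_mul, AdjoinRoot.mk_self, mul_zero, zero_add, map_sub, map_pow, AdjoinRoot.mk_X,
      map_one] at this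
    rw [mul_comm]; exact this
  have h2 : IsUnit (AdjoinRoot.root g - τ (AdjoinRoot.root g)) := by
    have e : (AdjoinRoot.root g - τ (AdjoinRoot.root g)) * AdjoinRoot.root g = AdjoinRoot.root g ^ 2 - 1 := by
      rw [sub_mul, hτ, tau_root, ← pow_succ, Nat.sub_add_cancel ha.pos, root_pow (hc.dvd_X_pow ha), sq]
    exact isUnit_of_mul_isUnit_left (e ▸ h1)
  obtain ⟨w, hw⟩ := NormEngine.exists_norm τ tau_tau _ h2 x hxτ hxu
  exact iso_of_norm ha ha' hc hc' hB x w hxu hx hw

/-- Square roots of elements congruent to one modulo nilpotents, as powers. -/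
theorem exists_pow_sq (h2 : (2 : F) ≠ 0) {S : Type*} [Ring S] [Algebra F S] (x : S) (k : ℕ)
    (hx : (x - 1) ^ k = 0) : ∃ m : ℕ, (x ^ m) ^ 2 = x := by
  obtain ⟨p, hp⟩ := CharP.exists F
  haveI := Fintype.ofFinite F
  haveI hpp : Fact p.Prime := ⟨CharP.char_is_prime F p⟩
  have hp2 : p ≠ 2 := by rintro rfl; exact h2 (CharP.cast_eq_zero F 2)
  have hodd : Odd (p ^ k) := (hpp.out.odd_of_ne_two hp2).pow
  have hxk : x ^ p ^ k = 1 := by
    have e : ((X : F[X]) - 1) ^ p ^ k = X ^ p ^ k - 1 := by rw [sub_pow_char_pow, one_pow]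
    have e2 := congrArg (aeval x) e
    simp only [map_sub, map_pow, map_one, aeval_X] at e2
    rw [pow_eq_zero_of_le (Nat.lt_pow_self hpp.out.one_lt).le hx] at e2
    exact (sub_eq_zero.1 e2.symm)
  obtain ⟨j, hj⟩ := hodd
  refine ⟨j + 1, ?_⟩
  rw [← pow_mul, show (j + 1) * 2 = p ^ k + 1 by omega, pow_succ, hxk, one_mul]

/-- Unipotent blocks are determined by the annihilator and one square class. -/
theorem iso_of_unipotent (ha : Isom B N a) (ha' : Isom B N a') (h2 : (2 : F) ≠ 0) {ε : F} {e : ℕ} (he : 1 ≤ e)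
    (hc : Cyc B a ((X - C ε) ^ e) v) (hc' : Cyc B a' ((X - C ε) ^ e) v') (hB : B.IsAlt)
    (hsq : IsSquare (B (aeval a ((X - C ε) ^ (e - 1)) v) v) ↔ IsSquare (B (aeval a' ((X - C ε) ^ (e - 1)) v') v')) :
    IsoOn B a a' (gen a v) (gen a' v') := by
  classical
  obtain ⟨x, hxu, hxτ, hx⟩ := exists_ratio_elem ha ha' hc hc' hB
  haveI := Fintype.ofFinite F
  obtain ⟨f, rfl⟩ := AdjoinRoot.mk_surjective x
  set L : F[X] := X - C ε with hL
  have hdiv : ∀ f : F[X], L ∣ f - C (f.eval ε) := fun f => dvd_iff_isRoot.2 (by simp)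
  have ht : ∀ (b : Module.End F V) (u : V), aeval b (L ^ e) u = 0 → ∀ f : F[X],
      aeval b (f * L ^ (e - 1)) u = f.eval ε • aeval b (L ^ (e - 1)) u := by
    intro b u hu f
    obtain ⟨d, hd⟩ := hdiv f
    have e1 : f * L ^ (e - 1) = d * L ^ e + C (f.eval ε) * L ^ (e - 1) := by
      rw [show L ^ e = L ^ (e - 1) * L by rw [← pow_succ, Nat.sub_add_cancel he]]
      linear_combination L ^ (e - 1) * hd
    rw [e1, map_add, LinearMap.add_apply, aeval_mul_apply, hu, map_zero, zero_add, aeval_mul_apply, aeval_C,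
      Module.algebraMap_end_apply]
  set t := B (aeval a (L ^ (e - 1)) v) v with htdef
  set t' := B (aeval a' (L ^ (e - 1)) v') v' with htdef'
  have hnz : ∀ (b : Module.End F V) (u : V), Cyc B b (L ^ e) u → B (aeval b (L ^ (e - 1)) u) u ≠ 0 := by
    intro b u hcu h0
    have hd := hcu.nondeg (L ^ (e - 1)) fun h => by
      rw [ht b u hcu.kills, map_smul, LinearMap.smul_apply, h0, smul_zero]
    have := (pow_dvd_pow_iff (X_sub_C_ne_zero ε) (not_isUnit_X_sub_C ε)).1 hd
    omega
  have htc : t' = f.eval ε * t := by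
    have h := hx (AdjoinRoot.mk _ (L ^ (e - 1)))
    rw [psi_mk _ hc'.kills, ← map_mul, psi_mk _ hc.kills, ht a v hc.kills, map_smul, LinearMap.smul_apply,
      smul_eq_mul] at h
    exact h
  have hc0 : f.eval ε ≠ 0 := fun h0 => hnz a' v' hc' (by rw [← htdef', htc, h0, zero_mul])
  obtain ⟨s, hs⟩ : IsSquare (f.eval ε) := by
    have hchar : ringChar F ≠ 2 := fun h => h2 (by
      haveI := ringChar.charP F
      have := CharP.cast_eq_zero F (ringChar F)
      rw [h] at this
      exact_mod_cast this)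
    have ht0 : t ≠ 0 := hnz a v hc
    have ht0' : t' ≠ 0 := hnz a' v' hc'
    have key : quadraticChar F t = quadraticChar F t' := by
      rcases quadraticChar_dichotomy ht0 with h | h <;> rcases quadraticChar_dichotomy ht0' with h' | h' <;>
        rw [h, h']
      · exact absurd (hsq.1 ((quadraticChar_one_iff_isSquare ht0).1 h)) (quadraticChar_neg_one_iff_not_isSquare.1 h')
      · exact absurd (hsq.2 ((quadraticChar_one_iff_isSquare ht0').1 h')) (quadraticChar_neg_one_iff_not_isSquare.1 h)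
    rw [htc, map_mul] at key
    refine (quadraticChar_one_iff_isSquare hc0).1 ?_
    exact (mul_eq_right₀ (by rw [Ne, quadraticChar_eq_zero_iff]; exact ht0)).1 key.symm
  have hs0 : s ≠ 0 := fun h => hc0 (by rw [hs, h, mul_zero])
  set y := AdjoinRoot.of (L ^ e) (f.eval ε)⁻¹ * AdjoinRoot.mk (L ^ e) f with hy
  have hnil : (y - 1) ^ e = 0 := by
    rw [hy, ← AdjoinRoot.mk_C, ← map_mul, ← map_one (AdjoinRoot.mk (L ^ e)), ← map_sub, ← map_pow,
      AdjoinRoot.mk_eq_zero]
    refine pow_dvd_pow_of_dvd (dvd_iff_isRoot.2 ?_) e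
    simp [hc0]
  obtain ⟨m, hm⟩ := exists_pow_sq h2 y e hnil
  refine iso_of_norm ha ha' hc hc' hB _ (AdjoinRoot.of (L ^ e) s * y ^ m) hxu hx ?_
  rw [map_mul, tau_of, map_pow, hy, map_mul (tau _ _ _), tau_of, hxτ, ← hy, mul_mul_mul_comm, ← map_mul, ← hs, ← sq, hm,
    hy, ← mul_assoc, ← map_mul, mul_inv_cancel₀ hc0, map_one, one_mul]

end Cfsg.Lib.ClassNumberSp
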