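import Cfsg.Agent.Known.ClassNumberSp.Regular
import Mathlib

/-! Centralisers of regular unipotent elements of symplectic groups in odd characteristic. -/

set_option autoImplicit false
set_option linter.style.haveILetI false

open Polynomial Matrix Cfsg.Lib.Classical

namespace Cfsg.Lib.ClassNumberSp

universe u

section Count

variable {F : Type u} [Field F] {R : Type*} [CommRing R] [Algebra F R]

/-- The Cayley transform identifies the norm one elements of residue one with anti-fixed elements. -/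
theorem card_norm_one_res (τ : R →+* R) (hττ : ∀ r, τ (τ r) = r) (ρ : R →+* F) (hρτ : ∀ r, ρ (τ r) = ρ r)
    (hu : ∀ r, ρ r ≠ 0 → IsUnit r) (h2 : (2 : F) ≠ 0) :
    Nat.card {w : R // w * τ w = 1 ∧ ρ w = 1} = Nat.card {a : R // τ a = -a} := by
  symm
  have hres : ∀ a : R, τ a = -a → ρ a = 0 := fun a ha => by
    have h := hρτ a
    rw [ha, map_neg] at h
    have : (2 : F) * ρ a = 0 := by linear_combination -h
    exact (mul_eq_zero.1 this).resolve_left h2
  have hm : ∀ a : {a : R // τ a = -a}, IsUnit (1 - (a : R)) := fun a => hu _ (by simp [hres a a.2])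
  have hp : ∀ a : {a : R // τ a = -a}, IsUnit (1 + (a : R)) := fun a => hu _ (by simp [hres a a.2])
  let w : {a : R // τ a = -a} → R := fun a => (1 + (a : R)) * Ring.inverse (1 - (a : R))
  have hw : ∀ a, w a * (1 - (a : R)) = 1 + a := fun a => by
    simp only [w]
    rw [mul_assoc, Ring.inverse_mul_cancel _ (hm a), mul_one]
  have hw' : ∀ a, τ (w a) * (1 + (a : R)) = 1 - a := fun a => by
    have := congrArg τ (hw a)
    rwa [map_mul, map_sub, map_add, map_one, a.2, sub_neg_eq_add, ← sub_eq_add_neg] at this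
  refine Nat.card_congr (Equiv.ofBijective (fun a => ⟨w a, ?_, ?_⟩) ⟨?_, ?_⟩)
  · apply ((hm a).mul (hp a)).mul_right_cancel
    linear_combination τ (w a) * (1 + (a : R)) * hw a + (1 + (a : R)) * hw' a
  · have := congrArg ρ (hw a)
    simpa [hres a a.2] using this
  · intro a b hab
    have hab' : w a = w b := congrArg Subtype.val hab
    have hρ : ρ (w a) = 1 := by
      have := congrArg ρ (hw a)
      simpa [hres a a.2] using this
    have h1 : IsUnit (1 + w a) := hu _ (by rw [map_add, map_one, hρ]; norm_num; exact h2)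
    apply Subtype.ext
    apply h1.mul_left_cancel
    linear_combination (hw b) - (hw a) + (1 - (b : R)) * hab'
  · rintro ⟨y, hy, hyρ⟩
    obtain ⟨u, hu'⟩ := (hu (1 + y) (by rw [map_add, map_one, hyρ]; norm_num; exact h2)).exists_right_inv
    set a := (y - 1) * u with ha
    have haeq : a * (1 + y) = y - 1 := by rw [ha]; linear_combination (y - 1) * hu'
    have hτa : τ a = -a := by
      apply (hu (1 + y) (by rw [map_add, map_one, hyρ]; norm_num; exact h2)).mul_right_cancel
      have h := congrArg τ haeq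
      rw [map_mul, map_add, map_sub, map_one] at h
      linear_combination y * h + haeq - (τ a - 1) * hy
    refine ⟨⟨a, hτa⟩, Subtype.ext ((hm ⟨a, hτa⟩).mul_right_cancel ?_)⟩
    show w ⟨a, hτa⟩ * (1 - a) = y * (1 - a)
    rw [hw ⟨a, hτa⟩]
    linear_combination haeq

/-- Norm one elements of a local algebra with an involution. -/
theorem card_norm_one [Finite R] (τ : R →+* R) (hττ : ∀ r, τ (τ r) = r) (ρ : R →+* F) (hρτ : ∀ r, ρ (τ r) = ρ r)
    (hu : ∀ r, ρ r ≠ 0 → IsUnit r) (h2 : (2 : F) ≠ 0) :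
    Nat.card {w : R // w * τ w = 1} = 2 * Nat.card {a : R // τ a = -a} := by
  classical
  have h1 := card_norm_one_res τ hττ ρ hρτ hu h2
  let e1 : {w : R // w * τ w = 1 ∧ ρ w = 1} ≃ {w : R // w * τ w = 1 ∧ ρ w = -1} :=
    (Equiv.neg R).subtypeEquiv fun w => by simp [neg_eq_iff_eq_neg]
  have hsplit : ∀ w : R, (w * τ w = 1) ↔ ((w * τ w = 1 ∧ ρ w = 1) ∨ (w * τ w = 1 ∧ ρ w = -1)) := by
    refine fun w => ⟨fun h => ?_, fun h => h.elim (·.1) (·.1)⟩
    have := congrArg ρ h
    rw [map_mul, hρτ, map_one] at this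
    exact (mul_self_eq_one_iff.1 this).imp (⟨h, ·⟩) (⟨h, ·⟩)
  have hdisj : Disjoint (fun w : R => w * τ w = 1 ∧ ρ w = 1) (fun w : R => w * τ w = 1 ∧ ρ w = -1) := by
    rw [Pi.disjoint_iff]
    intro w
    rw [Prop.disjoint_iff]
    rintro ⟨h, h'⟩
    have h3 : (2 : F) = 0 := by linear_combination (h'.2 ▸ h.2.symm : (1 : F) = -1)
    exact h2 h3
  rw [Nat.card_congr ((Equiv.subtypeEquivRight hsplit).trans (subtypeOrEquiv _ _ hdisj)), Nat.card_sum,
    ← Nat.card_congr e1, h1, two_mul]

/-- An anti-symmetric nondegenerate functional forces equal fixed and anti-fixed parts. -/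
theorem card_anti [FiniteDimensional F R] {m : ℕ} (hR : Module.finrank F R = 2 * m) (τ : R →ₗ[F] R)
    (hττ : ∀ r, τ (τ r) = r) (hmul : ∀ r s, τ (r * s) = τ r * τ s) (φ : R →ₗ[F] F) (hanti : ∀ r, φ (τ r) = - φ r)
    (hnd : ∀ y, (∀ r, φ (y * r) = 0) → y = 0) (h2 : (2 : F) ≠ 0) :
    Nat.card {a : R // τ a = -a} = Nat.card F ^ m := by
  let M : R →ₗ[F] Module.Dual F R :=
    { toFun := fun x => φ.comp (LinearMap.mulLeft F x)
      map_add' := fun x y => LinearMap.ext fun r => by simp [add_mul]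
      map_smul' := fun c x => LinearMap.ext fun r => by simp }
  have hMs : Function.Surjective M :=
    (LinearMap.injective_iff_surjective_of_finrank_eq_finrank (Subspace.dual_finrank_eq).symm).1
      ((injective_iff_map_eq_zero M).2 fun y hy => hnd y fun r => LinearMap.congr_fun hy r)
  have hiso : ∀ W : Submodule F R, (∀ x ∈ W, ∀ y ∈ W, φ (x * y) = 0) → Module.finrank F W ≤ m := by
    intro W hW
    let Q : R →ₗ[F] Module.Dual F W := W.subtype.dualMap.comp M
    have hQ : Function.Surjective Q := (LinearMap.dualMap_surjective_of_injective W.subtype_injective).comp hMs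
    have h3 := Q.finrank_range_add_finrank_ker
    rw [LinearMap.range_eq_top.2 hQ, finrank_top, Subspace.dual_finrank_eq, hR] at h3
    have h4 : W ≤ LinearMap.ker Q := fun x hx => LinearMap.ext fun y => hW x hx _ y.2
    have := Submodule.finrank_mono h4
    omega
  let Fx := LinearMap.ker (τ - LinearMap.id)
  let An := LinearMap.ker (τ + LinearMap.id)
  have hFx : ∀ x, x ∈ Fx → τ x = x := fun x hx => sub_eq_zero.1 hx
  have hAn : ∀ x, x ∈ An → τ x = -x := fun x hx => eq_neg_of_add_eq_zero_left hx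
  have hzero : ∀ x, τ x = x → φ x = 0 := fun x hx => by
    have h := hanti x
    rw [hx] at h
    have : (2 : F) * φ x = 0 := by linear_combination h
    exact (mul_eq_zero.1 this).resolve_left h2
  have hF' := hiso Fx fun x hx y hy => hzero _ (by rw [hmul, hFx x hx, hFx y hy])
  have hA' := hiso An fun x hx y hy => hzero _ (by rw [hmul, hAn x hx, hAn y hy, neg_mul_neg])
  have hrange : LinearMap.range (τ - LinearMap.id) ≤ An := by
    rintro _ ⟨x, rfl⟩
    show (τ + LinearMap.id : R →ₗ[F] R) ((τ - LinearMap.id : R →ₗ[F] R) x) = 0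
    simp only [LinearMap.add_apply, LinearMap.sub_apply, LinearMap.id_apply, map_sub, hττ]
    abel
  have h3 := (τ - LinearMap.id : R →ₗ[F] R).finrank_range_add_finrank_ker
  have h5 := Submodule.finrank_mono hrange
  have hdim : Module.finrank F An = m := by
    change _ + Module.finrank F Fx = _ at h3
    omega
  rw [← hdim, ← Module.natCard_eq_pow_finrank]
  exact Nat.card_congr (Equiv.subtypeEquivRight fun a => eq_neg_iff_add_eq_zero)

end Count

variable {F : Type u} [Field F] [Fintype F] {m : ℕ}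

theorem card_centralizer_regular_unip (hodd : Odd (Fintype.card F)) (hm : 1 ≤ m) (u : symplecticGroup (Fin m) F)
    (hu : RegUnip (Matrix.toLin' (u : Matrix (Fin m ⊕ Fin m) (Fin m ⊕ Fin m) F)) (2 * m)) :
    Nat.card (Subgroup.centralizer ({u} : Set (symplecticGroup (Fin m) F))) = 2 * Fintype.card F ^ m := by
  classical
  have h2 := two_ne_zero_of_odd hodd
  have ha := isom_toLin u
  obtain ⟨v, hc, htop, hv⟩ := regular_block hm u hu
  set T := Matrix.toLin' (u : Matrix (Fin m ⊕ Fin m) (Fin m ⊕ Fin m) F) with hTdef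
  set L : F[X] := X - C (sgn F true) with hL
  set τ := tau ha.pos (hc.dvd_X_pow ha) hc.rev with hτ
  haveI : Module.Finite F (AdjoinRoot (L ^ (2 * m))) := hc.monic.finite_adjoinRoot
  haveI : Finite (AdjoinRoot (L ^ (2 * m))) := Module.finite_of_finite F
  let Φ : AdjoinRoot (L ^ (2 * m)) ≃ₗ[F] (Fin m ⊕ Fin m → F) := LinearEquiv.ofBijective (psi T hc.monic v)
    ⟨hc.psi_injective, LinearMap.range_eq_top.1 (by rw [range_psi hc.monic hc.kills, htop])⟩
  have hΦ : ∀ f, Φ (AdjoinRoot.mk _ f) = aeval T f v := fun f => psi_mk hc.monic hc.kills f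
  let φ : AdjoinRoot (L ^ (2 * m)) →ₗ[F] F := ((sympBilin m F).flip v).comp (Φ : _ →ₗ[F] _)
  have hφ : ∀ f, φ (AdjoinRoot.mk _ f) = sympBilin m F (aeval T f v) v := fun f => by
    show sympBilin m F (Φ _) v = _
    rw [hΦ]
  have hpair : ∀ r s, sympBilin m F (Φ r) (Φ s) = φ (τ s * r) := by
    intro r s
    obtain ⟨f, rfl⟩ := AdjoinRoot.mk_surjective r
    obtain ⟨k, rfl⟩ := AdjoinRoot.mk_surjective s
    rw [hΦ, hΦ, hτ, tau_mk, ← map_mul, hφ, alt_neg (sympBilin_isAlt m F), ha.adjoint, alt_neg (sympBilin_isAlt m F),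
      neg_neg, aeval_mul_apply]
  have hanti : ∀ r, φ (τ r) = - φ r := by
    intro r
    obtain ⟨f, rfl⟩ := AdjoinRoot.mk_surjective r
    rw [hτ, tau_mk, hφ, hφ, alt_neg (sympBilin_isAlt m F), ← ha.adjoint]
  have hnd : ∀ y, (∀ r, φ (y * r) = 0) → y = 0 := by
    intro y hy
    obtain ⟨f, rfl⟩ := AdjoinRoot.mk_surjective y
    refine AdjoinRoot.mk_eq_zero.2 (hc.nondeg f fun k => ?_)
    have := hy (AdjoinRoot.mk _ k)
    rwa [← map_mul, mul_comm f k, hφ] at this
  have hTΦ : ∀ r, T (Φ r) = Φ (AdjoinRoot.root _ * r) := by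
    intro r
    obtain ⟨f, rfl⟩ := AdjoinRoot.mk_surjective r
    rw [← AdjoinRoot.mk_X, ← map_mul, hΦ, hΦ, aeval_mul_apply, aeval_X]
  -- commuting isometries are multiplications
  have hmul : ∀ M : Module.End F (Fin m ⊕ Fin m → F), (∀ x, M (T x) = T (M x)) →
      ∀ r, M (Φ r) = Φ (Φ.symm (M v) * r) := by
    intro M hM r
    obtain ⟨f, rfl⟩ := AdjoinRoot.mk_surjective r
    induction f using Polynomial.induction_on with
    | C a =>
      rw [hΦ, aeval_C, Module.algebraMap_end_apply, map_smul, AdjoinRoot.mk_C, mul_comm (Φ.symm _), ← AdjoinRoot.algebraMap_eq,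
        ← Algebra.smul_def, map_smul, LinearEquiv.apply_symm_apply]
    | add f g hf hg => rw [map_add, map_add, map_add, hf, hg, mul_add, map_add]
    | monomial k a ih =>
      rw [pow_succ', mul_left_comm, map_mul (AdjoinRoot.mk _) X, AdjoinRoot.mk_X, ← hTΦ, hM, ih, hTΦ, mul_left_comm]
  let G := symplecticGroup (Fin m) F
  let lin : G → Module.End F (Fin m ⊕ Fin m → F) := fun c => Matrix.toLin' (c : Matrix (Fin m ⊕ Fin m) (Fin m ⊕ Fin m) F)
  have hcomm : ∀ c : G, c ∈ Subgroup.centralizer ({u} : Set G) ↔ ∀ x, lin c (T x) = T (lin c x) := by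
    intro c
    rw [Subgroup.mem_centralizer_singleton_iff]
    constructor
    · intro h x
      have := congrArg (fun g : G => Matrix.toLin' (g : Matrix (Fin m ⊕ Fin m) (Fin m ⊕ Fin m) F) x) h
      simp only [Submonoid.coe_mul, Matrix.toLin'_mul, LinearMap.comp_apply] at this
      first | exact this | exact this.symm
    · intro h
      apply Subtype.ext
      apply Matrix.toLin'.injective
      rw [Submonoid.coe_mul, Submonoid.coe_mul, Matrix.toLin'_mul, Matrix.toLin'_mul]
      refine LinearMap.ext fun x => ?_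
      first | exact h x | exact (h x).symm
  have hnorm : ∀ w, (∀ r s, φ (τ (w * s) * (w * r)) = φ (τ s * r)) ↔ w * τ w = 1 := by
    intro w
    constructor
    · intro h
      refine sub_eq_zero.1 (hnd _ fun r => ?_)
      have := h r 1
      rw [map_one, one_mul, mul_one] at this
      rw [sub_mul, map_sub, one_mul, show w * τ w * r = τ w * (w * r) by ring, this, sub_self]
    · intro h r s
      rw [map_mul τ, show τ w * τ s * (w * r) = (w * τ w) * (τ s * r) by ring, h, one_mul]
  have hcard : Nat.card (Subgroup.centralizer ({u} : Set G)) = Nat.card {w // w * τ w = 1} := by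
    refine Nat.card_congr (Equiv.ofBijective (fun c => ⟨Φ.symm (lin c.1 v), (hnorm _).1 fun r s => ?_⟩) ⟨?_, ?_⟩)
    · rw [← hpair, ← hmul _ ((hcomm _).1 c.2), ← hmul _ ((hcomm _).1 c.2)]
      simp only [lin, Matrix.toLin'_apply]
      rw [(mem_symplectic_iff_form _).1 c.1.2, hpair]
    · intro c d hcd
      have hcd' : Φ.symm (lin c.1 v) = Φ.symm (lin d.1 v) := congrArg Subtype.val hcd
      refine Subtype.ext (Subtype.ext (Matrix.toLin'.injective (LinearMap.ext fun x => ?_)))
      obtain ⟨r, rfl⟩ := Φ.surjective x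
      show lin c.1 _ = lin d.1 _
      rw [hmul _ ((hcomm _).1 c.2), hmul _ ((hcomm _).1 d.2), hcd']
    · rintro ⟨w, hw⟩
      let M : Module.End F (Fin m ⊕ Fin m → F) := (Φ : _ →ₗ[F] _) ∘ₗ LinearMap.mulLeft F w ∘ₗ (Φ.symm : _ →ₗ[F] _)
      have hM : ∀ r, M (Φ r) = Φ (w * r) := fun r => by simp [M]
      have hmem : LinearMap.toMatrix' M ∈ symplecticGroup (Fin m) F := by
        rw [mem_symplectic_iff_form]
        intro x y
        rw [← Matrix.toLin'_apply, ← Matrix.toLin'_apply, Matrix.toLin'_toMatrix']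
        obtain ⟨r, rfl⟩ := Φ.surjective x
        obtain ⟨s, rfl⟩ := Φ.surjective y
        rw [hM, hM, hpair, hpair]
        exact (hnorm w).2 hw r s
      have hl : lin ⟨_, hmem⟩ = M := Matrix.toLin'_toMatrix' M
      refine ⟨⟨⟨_, hmem⟩, (hcomm _).2 fun x => ?_⟩, Subtype.ext ?_⟩
      · rw [hl]
        obtain ⟨r, rfl⟩ := Φ.surjective x
        rw [hTΦ, hM, hM, hTΦ, mul_left_comm]
      · show Φ.symm (lin ⟨_, hmem⟩ v) = w
        rw [hl, show v = Φ 1 by rw [← map_one (AdjoinRoot.mk (L ^ (2 * m))), hΦ, map_one, Module.End.one_apply], hM,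
          mul_one, LinearEquiv.symm_apply_apply]
  rw [hcard]
  let ρ : AdjoinRoot (L ^ (2 * m)) →+* F :=
    AdjoinRoot.lift (RingHom.id F) (sgn F true) (by simp [hL, show 2 * m ≠ 0 by omega])
  have hρ : ∀ f, ρ (AdjoinRoot.mk _ f) = f.eval (sgn F true) := fun f => AdjoinRoot.lift_mk _ f
  have hρτ : ∀ r, ρ (τ r) = ρ r := by
    intro r
    obtain ⟨f, rfl⟩ := AdjoinRoot.mk_surjective r
    rw [hτ, tau_mk, hρ, hρ, star, eval_comp]
    simp [sgn]
  have hunit : ∀ r, ρ r ≠ 0 → IsUnit r := by
    intro r hr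
    obtain ⟨f, rfl⟩ := AdjoinRoot.mk_surjective r
    rw [hρ] at hr
    obtain ⟨s, t, hst⟩ : IsCoprime (L ^ (2 * m)) f :=
      IsCoprime.pow_left ((irreducible_X_sub_C _).coprime_iff_not_dvd.2 fun h => hr (dvd_iff_isRoot.1 h))
    refine IsUnit.of_mul_eq_one (AdjoinRoot.mk _ t) ?_
    have := congrArg (AdjoinRoot.mk (L ^ (2 * m))) hst
    rw [map_add, map_mul, map_mul, AdjoinRoot.mk_self, mul_zero, zero_add, map_one] at this
    exact (mul_comm _ _).trans this
  have hττ : ∀ r, τ (τ r) = r := fun r => tau_tau r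
  rw [card_norm_one τ hττ ρ hρτ hunit h2]
  congr 1
  let τl : AdjoinRoot (L ^ (2 * m)) →ₗ[F] AdjoinRoot (L ^ (2 * m)) :=
    { toFun := τ, map_add' := map_add τ
      map_smul' := fun x r => by
        rw [Algebra.smul_def, map_mul, AdjoinRoot.algebraMap_eq, hτ, tau_of]
        rw [RingHom.id_apply, Algebra.smul_def, AdjoinRoot.algebraMap_eq] }
  rw [← Nat.card_eq_fintype_card]
  exact card_anti (by
      rw [(PowerBasis.finrank (AdjoinRoot.powerBasis' hc.monic)), AdjoinRoot.powerBasis'_dim, natDegree_pow,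
        show L.natDegree = 1 from natDegree_X_sub_C _, mul_one]) τl hττ (map_mul τ) φ hanti hnd h2

end Cfsg.Lib.ClassNumberSp
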